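import Cfsg.Agent.H2.BG1
import Cfsg.Agent.H2.BG2
import Cfsg.Agent.H2.BG3
import Cfsg.Agent.H2.BG4
import Cfsg.Agent.H2.BG5
import Cfsg.Agent.H2.BG6
import Cfsg.Agent.H2.BGA

/-! Bender-Glauberman sections 1-6 and appendices A, B. -/
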