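import Cfsg.Agent.H2.HHG
import Cfsg.Agent.H8.ExtLayer

/-! Linear groups of degree less than `p`. -/

namespace Cfsg.Agent.H2

open Subgroup H8 Module Cfsg.Agent.BG QuotientGroup
open scoped commutatorElement

universe u v
variable {F Γ : Type*} [Field F] [Group Γ] {W : Type v} [AddCommGroup W] [Module F W] [Finite Γ]
  [FiniteDimensional F W] {p : ℕ} [hp : Fact p.Prime]

theorem cjw_eq_of_lt {ρ : Representation F Γ W} (hd : finrank F W < p) {A : Subgroup Γ} (hA : (♯A : F) ≠ 0)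
    {g : normalizer (A : Set Γ)} {n : ℕ} (hg : (g : Γ) ^ p ^ n = 1) {μ : A →* Fˣ} {w : W} (hw : w ∈ wt ρ A μ)
    (h0 : w ≠ 0) : cjw g μ = μ := by
  by_contra h
  have h1 : ∀ i j : Fin p, i < j → cjw (g ^ (i : ℕ)) μ ≠ cjw (g ^ (j : ℕ)) μ := fun i j hij e => by
    obtain ⟨l, hl⟩ := Nat.exists_eq_add_of_lt (show (i : ℕ) < j from hij)
    rw [hl, add_assoc, pow_add, cjw_mul] at e
    have h2 := congrArg (cjw (g ^ (i : ℕ))⁻¹) e
    rw [cjw_inv_cjw, cjw_inv_cjw] at h2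
    have := pow_gcd_mem (S := stabW μ) (m := p ^ n) h2.symm
      ((show g ^ p ^ n = 1 from Subtype.ext hg) ▸ one_mem _)
    rw [((Nat.coprime_of_lt_prime l.succ_ne_zero (by have := j.2; omega) hp.out).symm.pow_right n).gcd_eq_one,
      pow_one] at this
    exact h this
  have h5 : LinearIndependent F fun i : Fin p => ρ (g ^ (i : ℕ) : normalizer (A : Set Γ)) w :=
    linearIndependent_iff'.2 fun s c hc i hi => by
      have := congrArg (pr ρ A (cjw (g ^ (i : ℕ)) μ)) hc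
      rw [map_sum, map_zero, Finset.sum_eq_single i (fun j _ hj => by
        rw [map_smul, pr_of_ne ((lt_or_gt_of_ne hj).elim (fun h => (h1 _ _ h).symm) (h1 _ _)) (rep_mem_wt _ hw),
          smul_zero]) (fun h => absurd hi h), map_smul, pr_of_mem hA (rep_mem_wt _ hw)] at this
      exact (smul_eq_zero.1 this).resolve_right fun e => h0 (rep_injective ρ _ (e.trans (map_zero _).symm))
  exact hd.not_ge (by simpa using h5.fintype_card_le_finrank)

variable [IsAlgClosed F]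

theorem fixS_der_le_of_lt {ρ : Representation F Γ W} (hd : finrank F W < p) {A : Subgroup Γ} (hA : (♯A : F) ≠ 0)
    {g : Γ} (h : g ∈ 𝒩 A) {n : ℕ} (hg : g ^ p ^ n = 1) : fixS ρ ⁅A, A⁆ ≤ fixS ρ ⁅A, zpowers g⁆ := fun w hw => by
  letI := Fintype.ofFinite (A →* Fˣ)
  rw [← sum_pr hA hw]
  refine Submodule.sum_mem _ fun μ _ => ?_
  by_cases h0 : pr ρ A μ w = 0
  · rw [h0]; exact zero_mem _
  intro a ha
  obtain ⟨a, hb, rfl⟩ := comm_le_ker_of_cjw_eq (cjw_eq_of_lt hd hA (g := ⟨g, h⟩) hg (pr_mem_wt ρ A μ w) h0) ha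
  simpa [MonoidHom.mem_ker.1 hb] using pr_mem_wt ρ A μ w a

theorem comm_of_lt {ρ : Representation F Γ W} (hρ : MonoidHom.ker ρ = ⊥) (hd : finrank F W < p) {P : Subgroup Γ}
    (hP : IsPGroup p P) (h0 : (♯P : F) ≠ 0) : P ≤ 𝒞 P := by
  obtain ⟨A, hA, -⟩ := exists_SCN_ge hP.isNilpotent bot_le le_normalizer_of_normal inferInstance
  have := IsSCN.comm hA
  have h1 : P ≤ 𝒞 A := fun g hg => by
    obtain ⟨n, hn⟩ := hP ⟨g, hg⟩
    have := fixS_der_le_of_lt (ρ := ρ) hd (natCast_ne_zero_of_dvd (card_dvd_of_le hA.1) h0) (hA.2.1 hg)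
      (congrArg Subtype.val hn)
    rw [commutator_eq_bot_iff_le_centralizer.2 (le_centralizer A), fixS_bot, top_le_iff, fixS_eq_top_iff, hρ,
      le_bot_iff, commutator_eq_bot_iff_le_centralizer, le_centralizer_iff] at this
    exact this (mem_zpowers g)
  have h2 : P ≤ A := (le_inf le_rfl h1).trans hA.2.2.le
  exact h1.trans (centralizer_le (SetLike.coe_subset_coe.2 h2))

theorem ito_crit [Nontrivial W] {ρ : Representation F Γ W} {K : Subgroup Γ} {y : Γ} (hirr : IrrOn ρ (K ⊔ zpowers y))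
    (hn : y ∈ 𝒩 K) (h0 : (♯Γ : F) ≠ 0) (hc : K ≤ ⁅K, zpowers y⁆) (hy : y ^ p ∈ center Γ) {μ : ↥⁅K, K⁆ →* Fˣ}
    (hμ : μ ≠ 1) (hw : ∀ w, w ∈ wt ρ _ μ) (hd : finrank F W < p) : finrank F W + 1 = p ∧ finrank F W ^ 2 ∣ ♯K := by
  classical
  have hK := natCast_ne_zero_of_dvd (card_subgroup_dvd_card K) h0
  have hR := natCast_ne_zero_of_dvd (card_subgroup_dvd_card (zpowers y)) h0
  have h1 : finrank F W ≠ 1 := fun h6 => by
    obtain ⟨u, hu0⟩ := exists_ne (0 : W)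
    have h7 := mem_fixS_iff_le.2 (der_le_stabV (ρ := ρ) (Y := K) (w := u) fun k hk =>
      exists_smul_of_finrank_le_one (U := ⊤) (by rw [finrank_top, h6]) trivial trivial hu0)
    rw [← wt_one] at h7
    exact hμ (eq_of_mem_wt hu0 (hw u) h7)
  have h3 : fixS (ρ.linHom ρ) ⁅K, K⁆ = ⊤ := eq_top_iff.2 fun T _ => mem_fixS_linHom.2 fun z hz w => by
    rw [hw _ ⟨z, hz⟩, hw _ ⟨z, hz⟩, map_smul]
  have hZ := zpowers_le.2 hy
  have : (zpowers (y ^ p)).Normal := ⟨fun a ha g => by rwa [mem_center_iff.1 (hZ ha) g, mul_inv_cancel_right]⟩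
  let σ : Representation F (Γ ⧸ zpowers (y ^ p)) (Module.End F W) := QuotientGroup.lift _ (ρ.linHom ρ)
    (fixS_eq_top_iff.1 (eq_top_iff.2 fun T _ => mem_fixS_linHom.2 fun z hz w => by
      obtain ⟨c, hc⟩ := hirr.schur (T := ρ z) (mem_fixS_linHom.2 fun a _ v => by
        rw [← rep_mul_apply, ← rep_mul_apply, mem_center_iff.1 (hZ hz) a])
      rw [hc, hc, map_smul]))
  have e : ∀ H : Subgroup Γ, fixS σ (H.map (mk' _)) = fixS (ρ.linHom ρ) H := fun H => Submodule.ext fun T =>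
    ⟨fun h g hg => h _ (mem_map_of_mem _ hg), by rintro h _ ⟨g, hg, rfl⟩; exact h g hg⟩
  have ho : ♯((zpowers y).map (mk' (zpowers (y ^ p)))) = p := by
    rw [MonoidHom.map_zpowers, Nat.card_zpowers]
    refine orderOf_eq_prime ((eq_one_iff _).2 (mem_zpowers _)) fun e => hμ (MonoidHom.ext fun a => ?_)
    have := commutator_eq_bot_iff_le_centralizer.2 (le_centralizer_iff.1
      ((zpowers_le.2 (hZ ((eq_one_iff _).1 e))).trans (center_le_centralizer (K : Set Γ))))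
    rw [show a = 1 from Subtype.ext (mem_bot.1 (this.le (hc (comm_self_le K a.2)))), map_one, map_one]
  have h4 := wielandt_step σ (H1.map_le_normalizer_map _ (zpowers_le.2 hn))
    (natCast_ne_zero_of_dvd (card_map_dvd K _) hK) fun x hx hx1 => by
      rw [H1.eq_of_le_of_card_prime (ho ▸ hp.out) (zpowers_le.2 hx) (by simpa using hx1), ← map_commutator]
      exact map_mono hc
  rw [← map_commutator, ← Subgroup.map_sup, ← Subgroup.map_sup, e, e, e, e, ho, h3, finrank_top,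
    Module.finrank_linearMap, ← sq, fixS_sup _ ⁅K, K⁆, h3, top_inf_eq,
    fixS_linHom_eq_span fun T hT => hirr.schur hT, finrank_span_singleton one_ne_zero] at h4
  letI := Fintype.ofFinite (zpowers y →* Fˣ)
  have h7 : finrank F W ≤ finrank F (fixS (ρ.linHom ρ) (zpowers y)) := by
    have h5 := finrank_fixS_der ρ hR
    rw [commutator_eq_bot_iff_le_centralizer.2 (le_centralizer _), fixS_bot, finrank_top] at h5
    exact h5.le.trans ((Finset.sum_le_sum fun _ _ => Nat.le_self_pow two_ne_zero _).trans (sum_sq_le_finrank ρ hR))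
  have h5 : (1 : Module.End F W) ∈ fixS (ρ.linHom ρ) K := mem_fixS_linHom.2 fun _ _ _ => rfl
  have h6 : 0 < finrank F W := Module.finrank_pos
  obtain ⟨h8, h9, -⟩ := hh_arith (Nat.one_le_iff_ne_zero.2 fun e => one_ne_zero
    ((Submodule.finrank_eq_zero.1 e).le h5)) h4 (by rw [sq]; exact Nat.mul_le_mul_left _ h7) h7 hd (by omega)
  have h11 := irrOn_of_scalar hK fun T hT => by
    obtain ⟨c, hc⟩ := exists_smul_of_finrank_le_one h9.le h5 hT one_ne_zero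
    exact ⟨c, fun w => by rw [hc]; rfl⟩
  refine ⟨h8, ?_⟩
  rw [h11.finrank_sq hK h3, ← card_char hK]
  exact (card_subgroup_dvd_card _).mul_right _

theorem ito_rep (ρ : Representation F Γ W) {Q : Subgroup Γ} {y : Γ} {n : ℕ} (hn : y ∈ 𝒩 Q) (h0 : (♯Γ : F) ≠ 0)
    (ho : y ^ p ^ n = 1) (hc : Q ≤ ⁅Q, zpowers y⁆) (h1 : ⁅Q, Q⁆ ≤ 𝒞 Q) (h2 : y ∈ 𝒞 ⁅Q, Q⁆) (hy : y ^ p ∈ 𝒞 Q)
    (hne : ¬ Q ≤ MonoidHom.ker ρ) (hd : finrank F W < p) :
    finrank F W + 1 = p ∧ finrank F W ^ 2 ∣ ♯Q ∧ IrrOn ρ ⊤ := by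
  have hQ := natCast_ne_zero_of_dvd (card_subgroup_dvd_card Q) h0
  have h3 := (fixS_der_le_of_lt hd hQ hn ho).trans (fixS_anti ρ hc)
  have hNQ := comm_self_le Q
  have hNN : ⁅⁅Q, Q⁆, ⁅Q, Q⁆⁆ = ⊥ := commutator_eq_bot_iff_le_centralizer.2
    (h1.trans (centralizer_le (SetLike.coe_subset_coe.2 hNQ)))
  obtain ⟨μ, hμ, w, hw, hw0⟩ := exists_wt_ne_bot (ρ := ρ) (natCast_ne_zero_of_dvd (card_dvd_of_le hNQ) hQ) (by
    rw [hNN, fixS_bot]
    exact fun e => hne (fixS_eq_top_iff.1 (eq_top_iff.2 (e.trans h3))))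
  have h4 : Q ⊔ zpowers y ≤ 𝒞 ⁅Q, Q⁆ := sup_le (le_centralizer_iff.1 h1) (zpowers_le.2 h2)
  obtain ⟨U, hU1, hU2, hU3, hU4⟩ := exists_min_inv ρ (Q ⊔ zpowers y) (U := wt ρ _ μ)
    ((Submodule.ne_bot_iff _).2 ⟨w, hw, hw0⟩) fun g hg v hv => by
      have := rep_mem_wt ⟨g, BG.cent_le_norm _ (h4 hg)⟩ hv
      rwa [cjw_eq_of_cent _ (h4 hg)] at this
  haveI : Nontrivial U := Submodule.nontrivial_iff_ne_bot.2 hU2
  let z : ↥(Q ⊔ zpowers y) := ⟨y, mem_sup_right (mem_zpowers _)⟩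
  have hl : Q ≤ Q ⊔ zpowers y := le_sup_left
  have e1 : Q.subgroupOf (Q ⊔ zpowers y) ⊔ zpowers z = ⊤ := by
    rw [← zpowers_subgroupOf, ← subgroupOf_sup hl le_sup_right, subgroupOf_self]
  have e4 := subgroupOf_commutator hl hl
  let f : ↥⁅Q.subgroupOf (Q ⊔ zpowers y), Q.subgroupOf (Q ⊔ zpowers y)⁆ →* ↥⁅Q, Q⁆ :=
    ((Subgroup.subtype _).comp (Subgroup.subtype _)).codRestrict _ fun x => e4.ge x.2
  obtain ⟨k1, k2⟩ := ito_crit (p := p) (ρ := subRep ρ _ U hU3) (y := z) (e1 ▸ irrOn_subRep hU3 hU4)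
    (subgroupOf_le_normalizer (H := zpowers y) (zpowers_le.2 hn) (mem_zpowers _))
    (natCast_ne_zero_of_dvd (card_subgroup_dvd_card _) h0)
    (by rw [← zpowers_subgroupOf, ← subgroupOf_commutator hl le_sup_right]; exact comap_mono hc)
    (mem_center_iff.2 fun g => Subtype.ext (mem_centralizer_iff.1 (le_centralizer_iff.1 (sup_le
      (le_centralizer_iff.1 (zpowers_le.2 hy)) ((le_centralizer _).trans (centralizer_le (SetLike.coe_subset_coe.2
        (zpowers_le.2 (pow_mem (mem_zpowers y) p)))))) (mem_zpowers _)) g g.2))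
    (μ := μ.comp f) (fun e => hμ (MonoidHom.ext fun a => DFunLike.congr_fun e ⟨⟨a, hl (hNQ a.2)⟩, e4.le a.2⟩))
    (fun u a => Subtype.ext (hU1 u.2 (f a))) (U.finrank_le.trans_lt hd)
  have e : finrank F U = finrank F W := by have := U.finrank_le; omega
  rw [e] at k1 k2
  obtain rfl := Submodule.eq_top_of_finrank_eq e
  exact ⟨k1, H1.card_subgroupOf hl ▸ k2, fun V h => hU4 V le_top fun g _ => h g trivial⟩

theorem ito_lt (ρ : Representation F Γ W) (hρ : MonoidHom.ker ρ = ⊥) (h0 : (♯Γ : F) ≠ 0) (hs : IsPSolvable p Γ)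
    (hd : finrank F W < p) (P : Sylow p Γ) (hP : ¬ (P : Subgroup Γ).Normal) :
    finrank F W + 1 = p ∧ (∃ q m : ℕ, q.Prime ∧ finrank F W = q ^ m) ∧ IrrOn ρ ⊤ := by
  have h1 := comm_of_lt hρ hd P.2 (natCast_ne_zero_of_dvd (card_subgroup_dvd_card _) h0)
  have h2 : (♯(pPrimeCore p Γ)).Coprime p := by rw [← H8.Opp_top]; exact H8.Opp_coprime _ _
  obtain ⟨x, hx, h3⟩ : ∃ x ∈ (P : Subgroup Γ), ¬ zpowers x ≤ 𝒞 (pPrimeCore p Γ) := by
    by_contra h
    push Not at h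
    have h3 : (P : Subgroup Γ) ≤ pPrimePCore p Γ := fun g hg => Reg.mem_pPrimePCore hs P fun x hx => by
      rw [commutatorElement_eq_one_iff_mul_comm.2 (mem_centralizer_iff.1 (h1 hx.1) g hg)]; exact one_mem _
    have h4 := sylIn_of_le P h3
    refine hP (le_antisymm (H1.pCore_le_sylow P) ((le_Op h3 ?_ P.2).trans
      ((Op_le_Op_of_sn p (SN.of_normal _)).trans (Op_top p).le)) ▸ inferInstance)
    rw [pPrimePCore_eq_sup h4]
    exact sup_le ((le_centralizer_iff.1 fun g hg => h g hg (mem_zpowers g)).trans (cent_le_norm _)) le_normalizer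
  have hx' := P.2.to_le (zpowers_le.2 hx)
  obtain ⟨q, hq, S, a, b, c⟩ : ∃ q : ℕ, q.Prime ∧ ∃ S, SylIn q S (pPrimeCore p Γ) ∧ zpowers x ≤ 𝒩 S ∧
      ¬ zpowers x ≤ 𝒞 S := by
    by_contra hh
    push Not at hh
    refine h3 (le_centralizer_iff.1 (BL.le_of_forall_sylIn fun q hq => ?_))
    have := Fact.mk hq
    obtain ⟨S, a, b⟩ := H8.exists_inv_sylIn hx' le_normalizer_of_normal h2 q
    exact ⟨S, a, le_centralizer_iff.1 (hh q hq S a b)⟩
  have := Fact.mk hq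
  have h5 : q ≠ p := fun e => c (by
    rw [eq_bot_of_pgroup_coprime (e ▸ a.pgrp) (BG.coprime_of_le_left h2 a.le), centralizer_bot_eq]; exact le_top)
  obtain ⟨k, h6, h7⟩ := L.exists_pow_not_mem hx' (A := (𝒞 S).subgroupOf _) (x := ⟨x, mem_zpowers x⟩)
    fun e => c (zpowers_le.2 e)
  have h8 : zpowers (x ^ p ^ k) ≤ zpowers x := zpowers_le.2 (pow_mem (mem_zpowers x) _)
  obtain ⟨Q, hQ, h⟩ := GS.exists_minAct a.pgrp (h8.trans b) le_rfl le_normalizer
    (coprime_primes_pgroup (hx'.to_le h8) h5.symm) fun e => h6 (e (mem_zpowers _))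
  obtain ⟨n, hn⟩ := hx' ⟨_, h8 (mem_zpowers _)⟩
  obtain ⟨k1, k2, k3⟩ := ito_rep ρ (h.norm (mem_zpowers _)) h0 (congrArg Subtype.val hn) h.comm.ge
    (h.phi_eq ▸ h.phi_le_cent) (h.phi_eq ▸ h.le_cent_phi (mem_zpowers _))
    (centralizer_le (SetLike.coe_subset_coe.2 hQ) h7) (fun e => h.ne_bot (eq_bot_iff.2 (e.trans hρ.le))) hd
  obtain ⟨l, hl⟩ := h.pgrp.exists_card_eq
  obtain ⟨m, -, hm⟩ := (Nat.dvd_prime_pow hq).1 (((dvd_pow_self _ two_ne_zero).trans k2).trans hl.dvd)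
  exact ⟨k1, ⟨q, m, hq, hm⟩, k3⟩

end Cfsg.Agent.H2
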