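import Cfsg.Agent.H2.HHG2
import Cfsg.Agent.H2.Ito
import Cfsg.Agent.B.Alg
import Cfsg.Agent.H8.Frat

/-! The derived length of linear `p`-groups. -/

namespace Cfsg.Agent.H2

open Subgroup H8 Module Cfsg.Agent.BG
open scoped commutatorElement

universe u v
variable {F Γ : Type*} [Field F] [Group Γ] {W : Type v} [AddCommGroup W] [Module F W]

theorem dr_succ' (X : Subgroup Γ) (n : ℕ) : dr X (n + 1) = dr ⁅X, X⁆ n := by
  induction n with
  | zero => rw [dr_succ, dr_zero, dr_zero]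
  | succ n ih => rw [dr_succ, ih, ← dr_succ]

theorem dr_top (n : ℕ) : dr (⊤ : Subgroup Γ) n = derivedSeries Γ n := map_derivedSeries_eq (fun x => ⟨⟨x, trivial⟩, rfl⟩) n

/-- the ascending fixed point series -/
def ascZ (ρ : Representation F Γ W) : ℕ → Submodule F W
  | 0 => ⊥
  | i + 1 => ⨅ g, (ascZ ρ i).comap (ρ g - 1)

theorem mem_ascZ {ρ : Representation F Γ W} {i : ℕ} {w : W} : w ∈ ascZ ρ (i + 1) ↔ ∀ g, ρ g w - w ∈ ascZ ρ i := by
  simp [ascZ]

theorem ascZ_inv (ρ : Representation F Γ W) (i : ℕ) : ∀ g, ∀ w ∈ ascZ ρ i, ρ g w ∈ ascZ ρ i := by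
  induction i with
  | zero => intro g w hw; rw [(Submodule.mem_bot F).1 hw, map_zero]; exact zero_mem _
  | succ i ih =>
    refine fun g w hw => mem_ascZ.2 fun h => ?_
    have := ih g _ (mem_ascZ.1 hw (g⁻¹ * h * g))
    rwa [map_sub, ← rep_mul_apply, ← mul_assoc, mul_inv_cancel_left, rep_mul_apply] at this

theorem ascZ_mono (ρ : Representation F Γ W) : Monotone (ascZ ρ) :=
  monotone_nat_of_le_succ fun i w hw => mem_ascZ.2 fun g => sub_mem (ascZ_inv ρ i g w hw) hw

/-- the elements lowering the fixed point series by `k` steps -/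
def lvl (ρ : Representation F Γ W) (k : ℕ) : Subgroup Γ where
  carrier := {g | ∀ i, ∀ w ∈ ascZ ρ (i + k), ρ g w - w ∈ ascZ ρ i}
  one_mem' := fun i w _ => by simp
  mul_mem' := fun {a b} ha hb i w hw => by
    have := add_mem (ascZ_inv ρ i a _ (hb i w hw)) (ha i w hw)
    rwa [map_sub, sub_add_sub_cancel, ← rep_mul_apply] at this
  inv_mem' := fun {a} ha i w hw => by
    have := neg_mem (ascZ_inv ρ i a⁻¹ _ (ha i w hw))
    rwa [map_sub, rep_inv_apply, neg_sub] at this

theorem der_le_lvl (ρ : Representation F Γ W) (k : ℕ) : derivedSeries Γ k ≤ lvl ρ (2 ^ k) := by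
  induction k with
  | zero => exact fun g _ i w hw => mem_ascZ.1 hw g
  | succ k ih =>
    refine commutator_le.2 fun a ha b hb i w hw => ?_
    have h1 := ascZ_inv ρ _ (b * a)⁻¹ w hw
    rw [pow_succ, mul_two, ← add_assoc] at h1
    have := sub_mem (ih ha i _ (ih hb _ _ h1)) (ih hb i _ (ih ha _ _ h1))
    convert this using 1
    simp only [map_sub, ← rep_mul_apply]
    rw [show b * (a * (b * a)⁻¹) = 1 by group, show a * (b * (b * a)⁻¹) = ⁅a, b⁆ by
      simp only [commutatorElement_def]; group, map_one, Module.End.one_apply]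
    abel

variable [Finite Γ] [FiniteDimensional F W] {p : ℕ} [hp : Fact p.Prime]

theorem ascZ_eq_top [CharP F p] (ρ : Representation F Γ W) (h : IsPGroup p Γ) : ascZ ρ (finrank F W) = ⊤ := by
  have key : ∀ i, ascZ ρ i = ⊤ ∨ i ≤ finrank F (ascZ ρ i) := fun i => by
    induction i with
    | zero => exact Or.inr (Nat.zero_le _)
    | succ i ih =>
      by_cases e : ascZ ρ i = ⊤
      · exact Or.inl (eq_top_iff.2 (e.ge.trans (ascZ_mono ρ i.le_succ)))
      refine Or.inr ((ih.resolve_left e).trans_lt (Submodule.finrank_lt_finrank_of_lt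
        (lt_of_le_of_ne (ascZ_mono ρ i.le_succ) fun e' => ?_)))
      let σ := ρ.quotient (ascZ ρ i) (ascZ_inv ρ i)
      letI : DistribMulAction Γ (W ⧸ ascZ ρ i) := DistribMulAction.compHom _ σ
      have := Submodule.Quotient.nontrivial_iff.2 e
      obtain ⟨v, hv⟩ := exists_ne (0 : W ⧸ ascZ ρ i)
      obtain ⟨w, h1, h2⟩ := B.exists_fixed_ne_zero (p := p) (fun v => by
        rw [← Nat.cast_smul_eq_nsmul F, CharP.cast_eq_zero, zero_smul]) h hv
      obtain ⟨w, rfl⟩ := Submodule.Quotient.mk_surjective _ w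
      exact h1 ((Submodule.Quotient.mk_eq_zero _).2 (e'.ge (mem_ascZ.2 fun g => (Submodule.Quotient.eq _).1 (h2 g))))
  exact (key _).elim id fun h => Submodule.eq_top_of_finrank_eq (le_antisymm (Submodule.finrank_le _) h)

theorem der_le_ker_of_char [CharP F p] (ρ : Representation F Γ W) (h : IsPGroup p Γ) {k : ℕ} (hk : finrank F W ≤ 2 ^ k) :
    derivedSeries Γ k ≤ MonoidHom.ker ρ := fun g hg => LinearMap.ext fun w => sub_eq_zero.1
  (der_le_lvl ρ k hg 0 w (ascZ_mono ρ (by rwa [zero_add]) ((ascZ_eq_top ρ h).ge trivial)))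

theorem dr_le_of_relIndex (S : Subgroup Γ) (m : ℕ) : ∀ X : Subgroup Γ, IsPGroup p X → S.relIndex X < p ^ (m + 1) →
    dr X m ≤ S := by
  induction m with
  | zero =>
    intro X hX h
    obtain ⟨k, hk⟩ := hX.index (S.subgroupOf X)
    rw [relIndex, hk, Nat.pow_lt_pow_iff_right hp.out.one_lt] at h
    obtain rfl : k = 0 := by omega
    rw [dr_zero]
    exact subgroupOf_eq_top.1 (index_eq_one.1 hk)
  | succ m ih =>
    intro X hX h
    by_cases e : X ≤ S
    · exact (dr_le X _).trans e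
    rw [dr_succ']
    refine ih _ (hX.to_le (comm_self_le X)) (lt_of_mul_lt_mul_right (a := p) ?_ (Nat.zero_le _))
    have h1 : S ⊓ X ⊔ ⁅X, X⁆ ≤ X := sup_le inf_le_right (comm_self_le X)
    obtain ⟨k, hk⟩ := hX.index ((S ⊓ X ⊔ ⁅X, X⁆).subgroupOf X)
    have h2 : k ≠ 0 := fun e' => e ((eq_of_sup_Phi inf_le_right (commutator_le_Phi_of_nilpotent hX.isNilpotent)
      (subgroupOf_eq_top.1 (index_eq_one.1 (by rw [hk, e', pow_zero])))).ge.trans inf_le_left)
    rw [← pow_succ]
    refine lt_of_le_of_lt ?_ h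
    rw [← inf_relIndex_right S X, ← relIndex_mul_relIndex _ _ _ le_sup_left h1]
    exact Nat.mul_le_mul ((Dh.ri_le (inf_le_left.trans inf_le_left)).trans (Dh.ri_mono le_sup_right))
      ((Nat.le_self_pow h2 p).trans hk.ge)

theorem card_le_finrank_of_wt {ρ : Representation F Γ W} {A : Subgroup Γ} (hA : (♯A : F) ≠ 0) {ι : Type*} [Finite ι]
    {ν : ι → (A →* Fˣ)} (hν : Function.Injective ν) (h : ∀ i, wt ρ A (ν i) ≠ ⊥) : Nat.card ι ≤ finrank F W := by
  letI := Fintype.ofFinite ι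
  choose v h1 h2 using fun i => (Submodule.ne_bot_iff _).1 (h i)
  have h5 : LinearIndependent F v := linearIndependent_iff'.2 fun s c hc i hi => by
    have := congrArg (pr ρ A (ν i)) hc
    rw [map_sum, map_zero, Finset.sum_eq_single i (fun j _ hj => by
      rw [map_smul, pr_of_ne (hν.ne hj).symm (h1 j), smul_zero]) (fun h => absurd hi h), map_smul,
      pr_of_mem hA (h1 i)] at this
    exact (smul_eq_zero.1 this).resolve_right (h2 i)
  exact Nat.card_eq_fintype_card.trans_le h5.fintype_card_le_finrank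

/-- the action of a group on the characters of a normal subgroup -/
def chAct (F : Type*) [Field F] (A : Subgroup Γ) [A.Normal] : MulAction Γ (A →* Fˣ) where
  smul g μ := cjw ⟨g, le_normalizer_of_normal (mem_top g)⟩ μ
  one_smul := cjw_one
  mul_smul g h := cjw_mul ⟨g, _⟩ ⟨h, _⟩

omit [Finite Γ] [FiniteDimensional F W] in
theorem wt_cjw_ne_bot {ρ : Representation F Γ W} {A : Subgroup Γ} {μ : A →* Fˣ} (h : wt ρ A μ ≠ ⊥)
    (g : normalizer (A : Set Γ)) : wt ρ A (cjw g μ) ≠ ⊥ := by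
  obtain ⟨w, h1, h2⟩ := (Submodule.ne_bot_iff _).1 h
  exact (Submodule.ne_bot_iff _).2 ⟨_, rep_mem_wt g h1, fun e => h2 (rep_injective ρ _ (e.trans (map_zero _).symm))⟩

theorem der_eq_bot_of_orbits [IsAlgClosed F] {ρ : Representation F Γ W} (hρ : MonoidHom.ker ρ = ⊥) (hp : IsPGroup p Γ)
    (h0 : (♯Γ : F) ≠ 0) {m : ℕ} (h : ∀ (A : Subgroup Γ) [A.Normal] (μ : A →* Fˣ), wt ρ A μ ≠ ⊥ →
      Nat.card (letI := chAct F A; MulAction.orbit Γ μ) < p ^ (m + 1)) : derivedSeries Γ (m + 1) = ⊥ := by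
  obtain ⟨A, hA, -⟩ := exists_SCN_ge (R := ⊤) (hp.to_subgroup _).isNilpotent bot_le le_normalizer_of_normal inferInstance
  have := IsSCN.comm hA
  have : A.Normal := normalizer_eq_top_iff.1 (eq_top_iff.2 hA.2.1)
  have hA0 := natCast_ne_zero_of_dvd (card_subgroup_dvd_card A) h0
  have hAA := commutator_eq_bot_iff_le_centralizer.2 (le_centralizer A)
  have h1 : derivedSeries Γ m ≤ A := fun g hg => hA.2.2.le ⟨trivial, le_centralizer_iff.1
    (commutator_eq_bot_iff_le_centralizer.1 (eq_bot_iff.2 (hρ ▸ fixS_eq_top_iff.1 (eq_top_iff.2 fun w _ => by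
      letI := Fintype.ofFinite (A →* Fˣ)
      rw [← sum_pr (ρ := ρ) (w := w) hA0 (by rw [hAA, fixS_bot]; trivial)]
      refine Submodule.sum_mem _ fun μ _ => ?_
      by_cases h2 : pr ρ A μ w = 0
      · rw [h2]; exact zero_mem _
      intro a ha
      letI := chAct F A
      have h3 := dr_le_of_relIndex (MulAction.stabilizer Γ μ) m ⊤ (hp.to_subgroup _) (by
        rw [relIndex_top_right, MulAction.index_stabilizer]
        exact h A μ ((Submodule.ne_bot_iff _).2 ⟨_, pr_mem_wt ρ A μ w, h2⟩)) ((dr_top m).ge hg)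
      obtain ⟨a, hb, rfl⟩ := comm_le_ker_of_cjw_eq (g := ⟨g, _⟩) h3 ha
      simpa [MonoidHom.mem_ker.1 hb] using pr_mem_wt ρ A μ w a)))) (mem_zpowers g)⟩
  exact eq_bot_iff.2 ((Subgroup.commutator_mono h1 h1).trans hAA.le)

theorem der_eq_bot_of_rep {ρ : Representation F Γ W} (hρ : MonoidHom.ker ρ = ⊥) (h : IsPGroup p Γ) :
    derivedSeries Γ (Nat.log 2 (finrank F W) + 1) = ⊥ := by
  have h1 := Nat.lt_pow_succ_log_self one_lt_two (finrank F W)
  by_cases e : (p : F) = 0
  · have := (CharP.charP_iff_prime_eq_zero hp.out).2 e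
    exact eq_bot_iff.2 (hρ ▸ der_le_ker_of_char ρ h h1.le)
  obtain ⟨k, hk⟩ := h.exists_card_eq
  have h0 : (♯Γ : AlgebraicClosure F) ≠ 0 := by
    rw [hk, Nat.cast_pow, ← map_natCast (algebraMap F _)]
    exact pow_ne_zero _ ((map_ne_zero _).2 e)
  refine der_eq_bot_of_orbits ((ker_bcRep (AlgebraicClosure F) ρ).trans hρ) h h0 fun A _ μ hμ => ?_
  refine (card_le_finrank_of_wt (ρ := bcRep (AlgebraicClosure F) ρ) (natCast_ne_zero_of_dvd (card_subgroup_dvd_card A) h0) Subtype.val_injective ?_).trans_lt ?_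
  · rintro ⟨_, g, rfl⟩
    exact wt_cjw_ne_bot hμ _
  · rw [Module.finrank_baseChange]
    exact h1.trans_le (Nat.pow_le_pow_left hp.out.two_le _)

/-- a matrix group as a representation -/
noncomputable def matRep {n : ℕ} (φ : Γ →* GL (Fin n) F) : Representation F Γ (Fin n → F) :=
  (Matrix.toLinAlgEquiv' : Matrix (Fin n) (Fin n) F ≃ₐ[F] _).toMonoidHom.comp ((Units.coeHom _).comp φ)

omit [Finite Γ] in
theorem matRep_apply {n : ℕ} (φ : Γ →* GL (Fin n) F) (g : Γ) (v : Fin n → F) : matRep φ g v = (φ g).1.mulVec v := rfl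

omit [Finite Γ] in
theorem ker_matRep {n : ℕ} {φ : Γ →* GL (Fin n) F} (h : Function.Injective φ) : MonoidHom.ker (matRep φ) = ⊥ :=
  (MonoidHom.ker_eq_bot_iff _).2 (Matrix.toLinAlgEquiv'.injective.comp (Units.val_injective.comp h))

end Cfsg.Agent.H2
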