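import Cfsg.Agent.H2.KS9b

/-! Primitive pairs of characteristic `p`. -/

namespace Cfsg.Agent.H2.Pr

open Subgroup Cfsg.Agent.H2 Cfsg.Agent.BG
open Cfsg.Agent.H8 (Op Opp SN Fs ncl Op_le Op_isPGroup le_normalizer_Op)
open Cfsg.Agent.H9 (AE MA JJ)
open scoped commutatorElement IsMulCommutative

universe u
variable {G : Type u} [Group G] [Finite G] {p : ℕ} [hp : Fact p.Prime] {M N V U W A B L X : Subgroup G} {a : G}

/-- a primitive pair of characteristic `p` -/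
structure PP (p : ℕ) (M N : Subgroup G) : Prop where
  ne : M ≠ N
  pr : ∀ A, A ≠ ⊥ → A ≤ M ⊓ N → M ≤ 𝒩 A → N ⊓ 𝒩 A ≤ M
  pr' : ∀ A, A ≠ ⊥ → A ≤ M ⊓ N → N ≤ 𝒩 A → M ⊓ 𝒩 A ≤ N
  ch : Fs M = Op p M
  ch' : Fs N = Op p N
  le : Op p M ≤ N
  le' : Op p N ≤ M

/-- the normal closure of the `Ω₁(Z(S))` -/
abbrev VZ (p : ℕ) (M : Subgroup G) : Subgroup G := sylowCenterClosure p M

theorem VZ_le_Op (h : Fs M = Op p M) : VZ p M ≤ Op p M :=
  have r := H8.red_sylowCenterClosure h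
  H8.le_Op r.le r.norm (H1.IsElementaryAbelian.isPGroup' r.elem)

namespace PP
variable (h : PP p M N)
include h

omit [Finite G] hp in
theorem symm : PP p N M :=
  ⟨h.ne.symm, fun A h1 h2 => h.pr' A h1 (inf_comm M N ▸ h2), fun A h1 h2 => h.pr A h1 (inf_comm M N ▸ h2),
    h.ch', h.ch, h.le', h.le⟩

omit [Finite G] hp in
theorem eq_bot (h1 : A ≤ M ⊓ N) (h2 : M ≤ 𝒩 A) (h3 : N ≤ 𝒩 A) : A = ⊥ := by
  by_contra h4
  exact h.ne (le_antisymm ((le_inf le_rfl h2).trans (h.pr' A h4 h1 h3)) ((le_inf le_rfl h3).trans (h.pr A h4 h1 h2)))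

theorem Op_ne : Op p M ≠ ⊥ := fun e => by
  have h1 := H8.Fs_eq_bot_iff.1 (h.ch.trans e)
  exact h.ne (h1.trans (H8.Fs_eq_bot_iff.1 (h.ch'.trans (eq_bot_iff.2 (h.le'.trans h1.le)))).symm)

theorem red : H8.Red p M (VZ p M) := H8.red_sylowCenterClosure h.ch

theorem V_ne : VZ p M ≠ ⊥ := by
  obtain ⟨S, hS⟩ := exists_sylIn p M
  exact ne_bot_mono (H8.omega_Zc_ne_bot hS.pgrp (ne_bot_mono h.Op_ne (H8.SylIn_Op_le hS)))
    (H8.omega_Zc_le_sylowCenterClosure hS)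

theorem norm_V : M ⊓ 𝒩 (VZ p N) ≤ N :=
  h.pr' _ h.symm.V_ne (le_inf ((VZ_le_Op h.ch').trans h.le') h.symm.red.le) h.symm.red.norm

theorem pgB : IsPGroup p ↥(Op p M ⊔ Op p N) :=
  (Op_isPGroup p M).to_sup_of_normal_left' (Op_isPGroup p N) (h.le'.trans (le_normalizer_Op p M))

omit [Finite G] hp in
theorem B_le : Op p M ⊔ Op p N ≤ M := sup_le (Op_le p M) h.le'

omit [Finite G] hp in
theorem B_le' : Op p M ⊔ Op p N ≤ N := sup_le h.le (Op_le p N)

omit [Finite G] hp h in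
theorem norm_B : M ⊓ N ≤ 𝒩 (Op p M ⊔ Op p N) :=
  H8.le_normalizer_sup (inf_le_left.trans (le_normalizer_Op p M)) (inf_le_right.trans (le_normalizer_Op p N))

theorem B_inf_le (h1 : L ≤ M) (h2 : M ≤ 𝒩 L) (h3 : resOf p L ≤ N) : (Op p M ⊔ Op p N) ⊓ L ≤ Op p M :=
  H8.le_Op_of_sn (((SN.of_norm h1 h2).trans (H8.sn_of_resOf_le le_sup_right (sup_le inf_le_right (resOf_le p L)))).trans
    (SN.of_norm le_sup_left (sup_le le_normalizer (H8.le_normalizer_inf
      ((le_inf ((resOf_le p L).trans h1) h3).trans norm_B) ((resOf_le p L).trans le_normalizer)))))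
    (h.pgB.to_le inf_le_left)

theorem le_Op_of_cent (h1 : X ≤ Op p M ⊔ Op p N) (h2 : X ≤ 𝒞 (ncl (VZ p N) M)) : X ≤ Op p M :=
  (le_inf h1 (le_inf (h1.trans h.B_le) h2)).trans (h.B_inf_le inf_le_left (H8.le_normalizer_inf le_normalizer
    (H8.le_normalizer_centralizer (H8.le_normalizer_ncl _ _))) ((resOf_le p _).trans ((inf_le_inf_left _
      ((H8.centralizer_anti (H8.le_ncl _ _)).trans (cent_le_norm _))).trans h.norm_V)))

theorem not_J (h1 : JJ p (Op p M ⊔ Op p N) ≤ Op p M) (h2 : JJ p (Op p M ⊔ Op p N) ≤ Op p N) : False :=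
  H9.JJ_ne_bot (.inr rfl) h.pgB (ne_bot_mono h.Op_ne le_sup_left) (h.eq_bot
    ((H9.JJ_le p _).trans (le_inf h.B_le h.B_le'))
    (by rw [← H9.JJ_eq_of_le h1 le_sup_left]; exact (le_normalizer_Op p M).trans (H9.normalizer_le_JJ p _))
    (by rw [← H9.JJ_eq_of_le h2 le_sup_right]; exact (le_normalizer_Op p N).trans (H9.normalizer_le_JJ p _)))

theorem W_le (h1 : VZ p N ≤ Op p M) : ncl (VZ p N) M ≤ Op p M := H8.ncl_le h1 (le_normalizer_Op p M)

theorem W_ae (h1 : ∀ x ∈ M, x ⋆ VZ p N ≤ 𝒞 (VZ p N)) : AE p (ncl (VZ p N) M) :=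
  H8.elem_ncl h.symm.red.elem (le_centralizer_iff_isMulCommutative.1 (H8.le_centralizer_ncl
    (H8.le_normalizer_ncl _ _) (H8.ncl_le_iff.2 h1)))

end PP

/-- `p`-stability of `M` on its normal `p`-subgroups -/
def St (p : ℕ) (M : Subgroup G) : Prop := ∀ V ≤ M, IsPGroup p V → M ≤ 𝒩 V → ∀ a ∈ M,
  ⁅⁅V, zpowers a⁆, zpowers a⁆ = ⊥ → resOf p (ncl (zpowers a) M) ≤ 𝒞 V

theorem st_of (h : PSt p M) : St p M := fun V h1 h2 h3 a ha hq => by
  have e := map_subgroupOf_eq_of_le h1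
  have hn : 𝒩 (V.subgroupOf M) = ⊤ := normalizer_eq_top_iff.2 (normal_subgroupOf_of_le_normalizer h3)
  have := map_mono (f := M.subtype) (h (V.subgroupOf M) (h2.comap_subtype) ⟨a, ha⟩ (hn ▸ mem_top _) (by
    rw [← H8.map_subtype_eq_bot_iff, map_commutator, map_commutator, e, MonoidHom.map_zpowers]; exact hq))
  rw [hn, map_resOf_injective _ M.subtype_injective, map_ncl, H8.map_subtype_top, MonoidHom.map_zpowers,
    H8.centralizer_map_subtype, e] at this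
  exact this.trans inf_le_right

theorem St.mem_Op (h : St p M) (hc : Fs M = Op p M) (ha : a ∈ M) (hq : ⁅⁅Op p M, zpowers a⁆, zpowers a⁆ = ⊥) :
    a ∈ Op p M :=
  have h1 := H8.ncl_le_of_le (zpowers_le.2 ha)
  H8.le_Op h1 (H8.le_normalizer_ncl _ _) (H8.isPGroup_of_resOf_le (H8.le_Op_of_char hc ((resOf_le p _).trans h1)
    (h _ (Op_le p M) (Op_isPGroup p M) (le_normalizer_Op p M) a ha hq)) (Op_isPGroup p M))
    (H8.le_ncl _ _ (mem_zpowers a))

theorem St.cent (h : St p M) (r : H8.Red p M V) (ha : a ∈ M) (hq : ⁅⁅V, zpowers a⁆, zpowers a⁆ = ⊥) : a ∈ 𝒞 V :=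
  r.red _ (SN.of_norm (H8.ncl_le_of_le (zpowers_le.2 ha)) (H8.le_normalizer_ncl _ _))
    (h V r.le (H1.IsElementaryAbelian.isPGroup' r.elem) r.norm a ha hq) (H8.le_ncl _ _ (mem_zpowers a))

omit hp in
theorem quad_of (ha : a ∈ A) (hA : IsMulCommutative A) (h : V ≤ 𝒩 A) : ⁅⁅V, zpowers a⁆, zpowers a⁆ = ⊥ :=
  le_cent_iff_comm.1 ((((Subgroup.commutator_mono le_rfl (zpowers_le.2 ha)).trans
    (H8.commutator_le_right_of_norm h)).trans (le_centralizer_iff_isMulCommutative.2 hA)).trans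
      (H8.centralizer_anti (zpowers_le.2 ha)))

theorem PP.J_le (h : PP p M N) (s : St p M) (s' : St p N) : JJ p (Op p M ⊔ Op p N) ≤ Op p M := by
  have r := h.symm.red
  have n : ∀ x ∈ M, Op p M ≤ 𝒩 (x ⋆ VZ p N) := fun x hx => by
    rw [← cj_normalizer, ← cj_eq_of_mem_normalizer (le_normalizer_Op p M hx)]; exact cj_mono x (h.le.trans r.norm)
  have h1 : VZ p N ≤ Op p M := fun a ha => s.mem_Op h.ch (h.le' (VZ_le_Op h.ch' ha))
    (quad_of ha r.elem.1 (h.le.trans r.norm))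
  have h2 := h.W_le h1
  have h3 := h.W_ae fun x hx a ha => s'.cent r (h.le (h2 (H8.cj_le_ncl _ hx ha)))
    (quad_of ha (elem_cj r.elem x).1 (h1.trans (n x hx)))
  have hn := H8.le_normalizer_ncl (VZ p N) M
  have q : ∀ a ∈ Op p M ⊔ Op p N, ⁅⁅ncl (VZ p N) M, zpowers a⁆, zpowers a⁆ = ⊥ → a ∈ 𝒞 (ncl (VZ p N) M) :=
    fun a ha hq => by
    have h4 := H8.ncl_le_of_le (zpowers_le.2 (h.B_le ha))
    have h5 := h.B_inf_le h4 (H8.le_normalizer_ncl _ _) ((le_inf ((resOf_le p _).trans h4) (((s _ (h2.trans (Op_le p M))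
      (H1.IsElementaryAbelian.isPGroup' h3) hn a (h.B_le ha) hq).trans (H8.centralizer_anti (H8.le_ncl _ _))).trans
        (cent_le_norm _))).trans h.norm_V) ⟨ha, H8.le_ncl _ _ (mem_zpowers a)⟩
    refine H8.le_centralizer_ncl (H8.le_normalizer_ncl _ _) (H8.ncl_le_iff.2 fun x hx => ?_) (H8.le_ncl _ _ (mem_zpowers a))
    have h6 := congrArg (x ⋆ ·) hq
    simp only [cj_commutator, cj_zpowers, cj_bot, cj_eq_of_mem_normalizer (hn hx)] at h6
    exact (cj_zpowers x a).le.trans (zpowers_le.2 (s'.cent r (h.le ((le_normalizer_Op p M hx a).1 h5))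
      (eq_bot_mono h6 (Subgroup.commutator_mono (Subgroup.commutator_mono (H8.le_ncl _ _) le_rfl) le_rfl))))
  refine h.le_Op_of_cent (H9.JJ_le p _) (H9.JJ_le_iff.2 fun A hA => ?_)
  by_contra hne
  have hA' := hA.le.trans (h.B_le.trans hn)
  refine hA.repl_ne h.pgB h3 (h2.trans le_sup_left) hA' (mt (le_cent_iff_comm.2 · |> le_cent_comm.1) hne)
    (le_cent_iff_comm.1 (le_cent_comm.1 fun x hx => q x ((hA.repl h3 (h2.trans le_sup_left) hA').le hx) ?_))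
  exact eq_bot_mono (H9.repl_quad h3.1 hA') (Subgroup.commutator_mono
    (Subgroup.commutator_mono le_rfl (zpowers_le.2 hx)) (zpowers_le.2 hx))

theorem PP.not_abSyl (h : PP p M N) (s : H9.AbSyl 2 M) (s' : H9.AbSyl 2 N) : False := by
  by_cases h2 : p = 2
  · subst h2
    have key : ∀ {M N : Subgroup G}, PP 2 M N → H9.AbSyl 2 N → Op 2 M ≤ Op 2 N := fun {M N} h s => by
      have := (H8.isMulCommutative_congr (subgroupOfEquivOfLe h.B_le')).1 (s _ (H8.isPGroup_subgroupOf h.pgB))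
      exact H8.le_Op_of_char h.ch' h.le (le_sup_left.trans ((le_centralizer_iff_isMulCommutative.2 this).trans
        (H8.centralizer_anti le_sup_right)))
    exact h.Op_ne (h.eq_bot (le_inf (Op_le 2 M) h.le) (le_normalizer_Op 2 M)
      (by rw [le_antisymm (key h s') (key h.symm s)]; exact le_normalizer_Op 2 N))
  have t := st_of (H9.pSt_of_abSyl h2 s)
  have t' := st_of (H9.pSt_of_abSyl h2 s')
  exact h.not_J (h.J_le t t') (by rw [sup_comm]; exact h.symm.J_le t' t)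

end Cfsg.Agent.H2.Pr
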