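import Cfsg.Agent.H2.Dih
import Cfsg.Agent.H2.PP

/-! Groups without sections `S₃` acting on elementary abelian `2`-groups. -/

namespace Cfsg.Agent.H2.Dh

open Subgroup Cfsg.Agent.H2 Cfsg.Agent.BG
open Cfsg.Agent.H8 (Op Opp im pre kr)
open Cfsg.Agent.H9 (AE MA)
open scoped commutatorElement IsMulCommutative

universe u
variable {G : Type u} [Group G] [Finite G] {A B C D F L M N P U V W X Y Z : Subgroup G} {a x y : G}

theorem ri_ne (A B : Subgroup G) : A.relIndex B ≠ 0 := index_ne_zero_of_finite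

theorem ri_le (h : A ⊓ X ≤ B) : B.relIndex X ≤ A.relIndex X := by
  rw [← inf_relIndex_right A]; exact relIndex_le_of_le_left h (ri_ne _ _)

theorem ri_mono (h : X ≤ Y) : A.relIndex X ≤ A.relIndex Y := relIndex_le_of_le_right h (ri_ne _ _)

theorem ri_le_mul (A B X : Subgroup G) : A.relIndex X ≤ A.relIndex (B ⊓ X) * B.relIndex X := by
  rw [relIndex_inf_mul_relIndex]; exact ri_le (inf_le_left.trans inf_le_left)

theorem mul_le_ri (h : Z ≤ C) (h1 : X ≤ C ⊓ U) (h2 : Y ≤ U) : Z.relIndex X * C.relIndex Y ≤ Z.relIndex U := by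
  have := relIndex_inf_mul_relIndex Z C U
  rw [inf_eq_left.2 h] at this
  exact (Nat.mul_le_mul (ri_mono h1) (ri_mono h2)).trans_eq this

theorem ri_sup (h : A ≤ 𝒩 B) : Z.relIndex (A ⊔ B) ≤ Z.relIndex A * Z.relIndex B := by
  have h1 := H1.card_sup_mul_card_inf h
  have h2 := H1.card_mul_card_le (inf_le_inf_left Z (le_sup_left : A ≤ A ⊔ B)) (inf_le_inf_left Z le_sup_right)
  have h3 := card_le_of_le (inf_le_inf inf_le_right inf_le_right : Z ⊓ A ⊓ (Z ⊓ B) ≤ A ⊓ B)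
  rw [← H1.card_inf_mul_relIndex Z A, ← H1.card_inf_mul_relIndex Z B, ← H1.card_inf_mul_relIndex Z (A ⊔ B)] at h1
  refine Nat.le_of_mul_le_mul_left (c := ♯↥(Z ⊓ (A ⊔ B)) * ♯↥(A ⊓ B)) ?_ (Nat.mul_pos Nat.card_pos Nat.card_pos)
  calc _ = ♯↥(Z ⊓ A) * ♯↥(Z ⊓ B) * (Z.relIndex A * Z.relIndex B) := by rw [mul_right_comm, h1]; ring
    _ ≤ _ := Nat.mul_le_mul_right _ (h2.trans (Nat.mul_le_mul_left _ h3))

theorem le_sup_of_ri (h : X ≤ U) (h1 : Z.relIndex U ≤ Z.relIndex X) : U ≤ X ⊔ (Z ⊓ U) := by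
  have h2 := H1.card_mul_card_le (le_sup_left : X ≤ X ⊔ (Z ⊓ U)) le_sup_right
  rw [show X ⊓ (Z ⊓ U) = Z ⊓ X by rw [inf_left_comm, inf_eq_left.2 h], ← H1.card_inf_mul_relIndex Z X, mul_assoc,
    mul_comm] at h2
  refine (eq_of_le_of_card_ge (sup_le h inf_le_right) ?_).ge
  rw [← H1.card_inf_mul_relIndex Z U, mul_comm]
  exact (Nat.mul_le_mul_right _ h1).trans (Nat.le_of_mul_le_mul_right h2 Nat.card_pos)

theorem le_of_ri (h : A.relIndex X ≤ 1) : X ≤ A := relIndex_eq_one.1 (le_antisymm h (Nat.pos_of_ne_zero (ri_ne _ _)))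

theorem two_le_ri (h : ¬ X ≤ A) : 2 ≤ A.relIndex X := not_lt.1 fun e => h (le_of_ri (by omega))

theorem ma_ri {e : ℕ} (h : MA e D A) (hV : AE e V) (hD : V ≤ D) : (𝒞 A).relIndex V ≤ (𝒞 V).relIndex A := by
  have h1 := h.bm hV hD (𝒞 V ⊓ A) inf_le_right
  rw [H9.ms, H9.ms, inf_eq_left.2 (le_cent_comm.1 inf_le_left), inf_comm V, ← H1.card_inf_mul_relIndex (𝒞 V) A,
    mul_assoc] at h1
  have h2 := Nat.le_of_mul_le_mul_left h1 Nat.card_pos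
  rw [← H1.card_inf_mul_relIndex (𝒞 A) V, mul_comm] at h2
  exact Nat.le_of_mul_le_mul_right h2 Nat.card_pos

theorem comm_le_of_ri (hX : (♯X).Coprime 6) (hP : X ≤ 𝒩 P) (hD : X ≤ 𝒩 D) (h4 : D.relIndex P ≤ 4) : ⁅P, X⁆ ≤ D := by
  refine commutator_le.2 fun a ha x hx => ?_
  let S : Subgroup G :=
    { carrier := {g | g ∈ 𝒩 D ∧ ⁅a, g⁆ ∈ D}
      one_mem' := ⟨one_mem _, by simp⟩
      mul_mem' := fun {g h} hg hh => ⟨mul_mem hg.1 hh.1, by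
        have := mul_mem hg.2 ((hg.1 _).1 hh.2)
        simp only [commutatorElement_def] at this ⊢
        convert this using 1; group⟩
      inv_mem' := fun {g} hg => ⟨inv_mem hg.1, by
        have := inv_mem ((inv_mem hg.1 _).1 hg.2)
        simp only [commutatorElement_def] at this ⊢
        convert this using 1; group⟩ }
  have := Fintype.ofFinite (P ⧸ D.subgroupOf P)
  obtain ⟨i, j, h1, h2⟩ : ∃ i j : ℕ, (i < j ∧ j < 5) ∧ (x ^ i * a⁻¹ * (x ^ i)⁻¹)⁻¹ * (x ^ j * a⁻¹ * (x ^ j)⁻¹) ∈ D := by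
    obtain ⟨i, j, h1, h2⟩ := Fintype.exists_ne_map_eq_of_card_lt (fun i : Fin 5 => (QuotientGroup.mk
      ⟨_, (pow_mem (hP hx) i _).1 (inv_mem ha)⟩ : P ⧸ D.subgroupOf P)) (by
        rw [Fintype.card_eq_nat_card, Fintype.card_fin]; exact Nat.lt_succ_of_le h4)
    obtain h | h := lt_or_gt_of_ne h1
    · exact ⟨i, j, ⟨h, j.2⟩, (QuotientGroup.eq.1 h2 :)⟩
    · exact ⟨j, i, ⟨h, i.2⟩, (QuotientGroup.eq.1 h2.symm :)⟩
  obtain ⟨d, rfl⟩ := Nat.exists_eq_add_of_le h1.1.le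
  refine (mem_of_pow_mem_of_coprime (K := S) (n := d) ⟨pow_mem (hD hx) d, ?_⟩ ?_).2
  · have := H8.conj_mem_of_mem_normalizer' (pow_mem (hD hx) i) h2
    rw [commutatorElement_def]
    convert this using 1; group
  · refine ((hX.pow_right 2).coprime_dvd_left (orderOf_dvd_natCard _ hx)).coprime_dvd_right ?_
    obtain rfl | rfl | rfl | rfl : d = 1 ∨ d = 2 ∨ d = 3 ∨ d = 4 := by omega
    all_goals decide

theorem le_cent_of_chain (hX : (♯X).Coprime 2) (hP : IsPGroup 2 P) (hn : X ≤ 𝒩 P) (h : ⁅P, X⁆ ≤ 𝒞 X) : X ≤ 𝒞 P := by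
  have e := H8.resOf_eq_of_coprime hX
  rw [← e] at h ⊢
  exact H8.resOf_le_centralizer_of_chain hP hn h (le_cent_comm.1 le_rfl)

theorem le_cent_of_ri (hX : (♯X).Coprime 6) (hP : IsPGroup 2 P) (hn : X ≤ 𝒩 P) (h4 : (𝒞 X).relIndex P ≤ 4) : X ≤ 𝒞 P :=
  le_cent_of_chain (hX.coprime_dvd_right (by decide)) hP hn
    (comm_le_of_ri hX hn (H8.le_normalizer_centralizer le_normalizer) h4)

omit [Finite G] in
theorem ae_sq (h : ∀ x ∈ X, x ^ 2 = 1) : AE 2 X := ⟨le_centralizer_iff_isMulCommutative.1 fun a ha b hb => by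
  have i : ∀ x ∈ X, x⁻¹ = x := fun x hx => inv_eq_of_mul_eq_one_left (pow_two x ▸ h x hx)
  rw [← i _ (mul_mem hb ha), mul_inv_rev, i a ha, i b hb], h⟩

theorem mem_cent_of_sq (hV : AE 2 V) (hx : IsPGroup 2 (zpowers x)) (hn : x ∈ 𝒩 V) (h : V ⊓ 𝒞₁ (x ^ 2) ≤ 𝒞₁ x) :
    x ∈ 𝒞 V := by
  by_contra hc
  obtain ⟨y, hy, h1, h2⟩ := exists_mem_normalizer_not_mem ((FM.ae_pg hV).to_sup_of_normal_left' hx (zpowers_le.2 hn))
    (Q := (V ⊔ zpowers x) ⊓ 𝒞₁ x) (lt_of_le_of_ne inf_le_left fun e =>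
      hc (le_cent1_iff.1 (le_sup_left.trans (e.ge.trans inf_le_right))))
  obtain ⟨v, hv, t, ht, rfl⟩ := H8.mem_sup_of_norm_left (zpowers_le.2 hn) hy
  have i : zpowers x ≤ (V ⊔ zpowers x) ⊓ 𝒞₁ x := le_inf le_sup_right (zpowers_le.2 (mem_cent1.2 rfl))
  have h3 := mem_cent1.1 (((mul_mem_cancel_right (le_normalizer (i ht))).1 h1 x).1 (i (mem_zpowers x))).2
  have h4 := hV.2 _ (mul_mem hv ((hn _).1 (inv_mem hv)))
  refine h2 ⟨hy, mul_mem (h ⟨hv, mem_cent1.2 ?_⟩) (i ht).2⟩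
  calc x ^ 2 * v = (v * (x * v⁻¹ * x⁻¹)) ^ 2 * x ^ 2 * v := by rw [h4, one_mul]
    _ = v * x * v⁻¹ * x⁻¹ * (v * x * v⁻¹ * x) * v := by rw [pow_two, pow_two]; group
    _ = _ := by rw [← h3, pow_two]; group

/-- no section is isomorphic to `S₃` -/
def NS (M : Subgroup G) : Prop := ¬ Sec (Equiv.Perm (Fin 3)) M

omit [Finite G] in
theorem Iv.sub {p : ℕ} (h : Iv p x y) (hx : x ∈ M) (hy : y ∈ M) : Iv p (⟨x, hx⟩ : M) ⟨y, hy⟩ :=
  ⟨isPGroup_zpowers_iff.2 ((isPGroup_zpowers_iff.1 h.two).imp fun _ e => Subtype.ext e),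
    isPGroup_zpowers_iff.2 ((isPGroup_zpowers_iff.1 h.pg).imp fun _ e => Subtype.ext e), Subtype.ext h.inv⟩

omit [Finite G] in
theorem NS.im {H : Type*} [Group H] (h : NS M) (f : X →* H) (hM : M ≤ X) : NS (im f M) :=
  fun e => h (e.trans (Sec.of_surj _ (H8.imHom_surjective f hM)))

theorem NS.cop (h : NS M) (ha : a ∈ M) (hx : x ∈ M) (h2 : a ^ 2 = 1) (ho : (orderOf x).Coprime 2)
    (hi : a * x * a⁻¹ = x⁻¹) : (♯(zpowers x)).Coprime 6 := by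
  rw [Nat.card_zpowers]
  refine Nat.Coprime.mul_right (n := 3) ho ((Nat.prime_three.coprime_iff_not_dvd.2 fun e => ?_).symm)
  have h3 := orderOf_pow_orderOf_div (orderOf_pos x).ne' e
  refine h ((Iv.sub (p := 3) ⟨isPGroup_zpowers_iff.2 ⟨1, h2⟩, isPGroup_zpowers_iff.2 ⟨1, orderOf_dvd_iff_pow_eq_one.1 (by rw [h3]; rfl)⟩, by
    rw [← conj_pow, hi, inv_pow]⟩ ha (pow_mem hx (orderOf x / 3))).s3 fun e => ?_)
  rw [show x ^ (orderOf x / 3) = 1 from congrArg Subtype.val e] at h3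
  simp at h3

theorem ns_of_s4 (hc : H8.Fs M = Op 2 M) (h : ¬ Sec (Equiv.Perm (Fin 4)) M) : NS M := fun e => by
  obtain ⟨x, y, h1, h2⟩ := iv_of_s3 e
  have : Fact (Nat.Prime 3) := ⟨Nat.prime_three⟩
  refine h (s4_of (T := pCore 2 M) (L.pCore_isPGroup 2 M) h1 (le_normalizer_of_normal (mem_top _))
    (le_normalizer_of_normal (mem_top _)) fun e => h2 ?_)
  exact mem_bot.1 ((inf_eq_bot_of_coprime (coprime_pgroups h1.pg (L.pCore_isPGroup 2 M) (by decide))).le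
    ⟨mem_zpowers y, (H8.char_iff_map M).2 (H8.Fs_eq_Op_iff.1 hc) e⟩)

theorem exists_inv (hA : AE 2 A) (hn : A ≤ 𝒩 F) (hF : (♯F).Coprime 2) (hc : ¬ F ≤ 𝒞 A) :
    ∃ B ≤ A, B.relIndex A = 2 ∧ ∃ a ∈ A, ∃ z ∈ F ⊓ 𝒞 B, z ≠ 1 ∧ a * z * a⁻¹ = z⁻¹ := by
  obtain ⟨B, h1, h2, h3⟩ : ∃ B ≤ A, B.relIndex A = 2 ∧ ¬ F ⊓ 𝒞 B ≤ 𝒞 A := by
    by_contra h
    push Not at h
    exact hc (H8.le_of_hyperplanes' hA (fun e => hc (by rw [e, H9.cent_bot]; exact le_top)) hn hF h)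
  obtain ⟨u, hu, h4⟩ := SetLike.not_le_iff_exists.1 h3
  obtain ⟨a, ha, h5⟩ : ∃ a ∈ A, a * u ≠ u * a := by simpa [mem_centralizer_iff] using h4
  refine ⟨B, h1, h2, a, ha, u⁻¹ * (a * u * a⁻¹), mul_mem (inv_mem hu) ((H8.le_normalizer_inf hn
    (H8.le_normalizer_centralizer ((hA.le_centralizer.trans (H8.centralizer_anti h1)).trans (cent_le_norm _))) ha _).1 hu),
    fun e => h5 (by rw [inv_mul_eq_one, eq_mul_inv_iff_mul_eq] at e; exact e.symm), ?_⟩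
  calc _ = a * u⁻¹ * a⁻¹ * (a ^ 2 * u) * (a ^ 2)⁻¹ := by rw [pow_two]; group
    _ = _ := by rw [hA.2 a ha]; group

theorem mem_of_inv (ha : a ∈ A) (h2 : a ^ 2 = 1) (ho : (orderOf x).Coprime 2) (hi : a * x * a⁻¹ = x⁻¹) :
    x ∈ A ⊔ x ⋆ A := by
  refine mem_of_pow_mem_of_coprime (n := 2) ?_ ho
  have := mul_mem (mem_sup_right (conj_mem_cj x ha)) (inv_mem (mem_sup_left (T := x ⋆ A) ha))
  rwa [mul_assoc x a, mul_assoc x, ← conj_inv, hi, inv_inv, ← pow_two] at this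

theorem f2 (hV : AE 2 V) (hM : M ≤ 𝒩 V) (hf : M ⊓ 𝒞 V = ⊥) (hc : M ⊓ 𝒞 (Opp 2 M) ≤ Opp 2 M) (ns : NS M) (A : Subgroup G)
    (h1 : A ≤ M) (hA : AE 2 A) : ♯A ^ 2 ≤ (𝒞 A).relIndex V := by
  induction A using WellFoundedLT.induction with | _ A ih => ?_
  by_cases h0 : A = ⊥
  · rw [h0, card_bot]; exact Nat.pos_of_ne_zero (ri_ne _ _)
  obtain ⟨B, h2, h3, a, ha, z, hz, z1, hi⟩ := exists_inv hA (h1.trans (H8.le_normalizer_Opp 2 M)) (H8.Opp_coprime 2 M)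
    fun e => h0 (eq_bot_iff.2 ((le_inf ((H8.Op_eq_self (FM.ae_pg hA)).ge) ((le_inf h1 (le_cent_comm.1 e)).trans hc)).trans
      (H8.Op_inf_Opp A M).le))
  have h4 := ih B (lt_of_le_of_ne h2 fun e => by simp [e] at h3) (h2.trans h1) (hA.of_le h2)
  have zM := H8.Opp_le 2 M hz.1
  have ho := (H8.Opp_coprime 2 M).coprime_dvd_left (orderOf_dvd_natCard _ hz.1)
  have h6 := ns.cop (h1 ha) zM (hA.2 a ha) ho hi
  have h5 : 4 ≤ (𝒞 A).relIndex (𝒞 B ⊓ V) := by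
    by_contra h
    have hW := (FM.ae_pg hV).to_le (inf_le_right : 𝒞 B ⊓ V ≤ V)
    obtain ⟨k, hk⟩ := H1.exists_relIndex_eq_pow hW (𝒞 A)
    have h7 : (𝒞 A).relIndex (𝒞 B ⊓ V) ≤ 2 := by
      rw [hk] at h ⊢
      exact Nat.pow_le_pow_right two_pos (Nat.le_of_lt_succ ((Nat.pow_lt_pow_iff_right one_lt_two).1 (not_le.1 h : _ < 2 ^ 2)))
    have n : zpowers z ≤ 𝒩 (𝒞 B ⊓ V) := zpowers_le.2 (H8.le_normalizer_inf (H8.le_normalizer_centralizer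
      (inf_le_left.trans (cent_le_norm B))) (inf_le_right.trans hM) ⟨hz.2, zM⟩)
    have h8 := le_cent_of_ri h6 hW n ((ri_le (A := 𝒞 A ⊓ z ⋆ 𝒞 A) (inf_le_left.trans (by
      rw [cj_centralizer, ← H1.centralizer_sup]
      exact H8.centralizer_anti (zpowers_le.2 (mem_of_inv ha (hA.2 a ha) ho hi))))).trans (relIndex_inf_le.trans
        (Nat.mul_le_mul (m₂ := 2) h7 (by
          rwa [← relIndex_cj z, cj_eq_of_mem_normalizer (zpowers_le.1 n)] at h7))))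
    refine z1 (mem_bot.1 (hf.le ⟨zM, zpowers_le.1 (le_cent_comm.1 (le_cent_iff_comm.2 (H8.axb' (FM.ae_pg (hA.of_le h2))
      (H8.resOf_eq_of_coprime (h6.coprime_dvd_right (by decide))) (FM.ae_pg hV)
      (le_cent_iff_comm.1 (le_cent_comm.1 (zpowers_le.2 hz.2))) ((h2.trans h1).trans hM) (zpowers_le.2 (hM zM))
      (le_cent_iff_comm.1 (le_cent_comm.1 (inf_comm V _ ▸ h8))))))⟩))
  rw [← H1.card_mul_relIndex h2, h3, mul_pow, mul_comm]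
  exact (Nat.mul_le_mul h5 h4).trans (mul_le_ri (H8.centralizer_anti h2) le_rfl le_rfl)

/-- no elementary abelian quotient acting on `V` is a `2F`-offender -/
def F2 (V N : Subgroup G) : Prop := ∀ Y ≤ N, (∀ y ∈ Y, y ^ 2 ∈ 𝒞 V) → (𝒞 V).relIndex Y ^ 2 ≤ (𝒞 Y).relIndex V

theorem f2_of_red (r : H8.Red 2 M V) (hs : IsPSolvable 2 M) (ns : NS M) : F2 V M := fun Y hY h => by
  have n := hY.trans r.norm
  have h1 := f2 (FM.ae_io r.elem) (FM.rh_le_norm_io_self _) (FM.rh_inf_cent M) (FM.cent_Opp_le (FM.pSolv_rh hs r.norm)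
    (FM.Op_rh r.norm r.red)) (ns.im _ r.norm) (im (FM.rho V) Y) (H8.im_mono _ hY) (ae_sq fun y hy => by
      obtain ⟨y, hy', rfl⟩ := (H8.mem_im _).1 hy
      exact map_pow (FM.rho V) y 2 ▸ (H8.mem_kr' _).1 (FM.kr_rho.ge (h y hy')))
  have h2 := H1.card_inf_mul_relIndex (𝒞 (im (FM.rho V) Y)) (FM.io V V)
  rw [inf_comm, FM.io_inf_cent n, FM.card_io inf_le_left, FM.card_io le_rfl, inf_comm,
    ← H1.card_inf_mul_relIndex (𝒞 Y) V, Nat.mul_right_inj Nat.card_pos.ne'] at h2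
  have h3 := FM.card_rh n
  rw [inf_comm, ← H1.card_inf_mul_relIndex (𝒞 V) Y, mul_comm, Nat.mul_right_inj Nat.card_pos.ne'] at h3
  rwa [h2, h3] at h1

omit [Finite G] in
theorem F2.cj (h : F2 V N) (g : G) : F2 (g ⋆ V) (g ⋆ N) := fun Y hY h1 => by
  have := h (g⁻¹ ⋆ Y) (le_cj_iff.1 hY) fun y hy => by
    rw [← conj_mem_cj_iff (g := g), cj_centralizer, ← conj_pow]
    exact h1 _ (by simpa using mem_cj.1 hy)
  rwa [← relIndex_cj g, ← relIndex_cj g (𝒞 _) V, cj_centralizer, cj_centralizer, cj_cj_inv] at this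

theorem F2.ae (h : F2 V N) (hY : Y ≤ N) (h1 : AE 2 Y) : (𝒞 V).relIndex Y ^ 2 ≤ (𝒞 Y).relIndex V :=
  h Y hY fun y hy => h1.2 y hy ▸ one_mem _

theorem F2.ri_le (h : F2 V N) (hV : AE 2 V) (hN : N ≤ 𝒩 V) (hP : IsPGroup 2 P) (h1 : P ≤ N)
    (h4 : (𝒞 P).relIndex V ≤ 4) : (𝒞 V).relIndex P ≤ 2 := by
  refine Nat.le_of_lt_succ (lt_of_pow_lt_pow_left₀ 2 (by decide) (((h P h1 fun g hg => ?_).trans h4).trans_lt (by decide)))
  by_contra hc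
  obtain ⟨k, h2, h3⟩ := L.exists_pow_not_mem hP (A := (𝒞 V).subgroupOf _) (x := ⟨g, hg⟩ ^ 2) hc
  change (g ^ 2) ^ 2 ^ k ∉ 𝒞 V at h2
  change ((g ^ 2) ^ 2 ^ k) ^ 2 ∈ 𝒞 V at h3
  rw [← pow_mul g 2, mul_comm, pow_mul] at h2 h3
  have ht := pow_mem hg (2 ^ k)
  generalize g ^ 2 ^ k = t at *
  have h5 := h (zpowers (t ^ 2)) (zpowers_le.2 (h1 (pow_mem ht 2))) fun y hy => by
    obtain ⟨n, rfl⟩ := mem_zpowers_iff.1 hy
    rw [← zpow_natCast, ← zpow_mul, mul_comm, zpow_mul, zpow_natCast]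
    exact zpow_mem h3 n
  have h6 := (Nat.pow_le_pow_left (two_le_ri fun e => h2 (zpowers_le.1 e)) 2).trans h5
  have i : 𝒞 P ≤ 𝒞 (zpowers (t ^ 2)) := H8.centralizer_anti (zpowers_le.2 (pow_mem ht 2))
  have h7 := (mul_le_ri (X := 𝒞 (zpowers (t ^ 2)) ⊓ V) i le_rfl le_rfl).trans h4
  have h8 := le_of_ri (A := 𝒞 P) (X := 𝒞 (zpowers (t ^ 2)) ⊓ V) (by nlinarith)
  rw [BL.cent_zpowers, inf_comm] at h8
  exact h2 (pow_mem (mem_cent_of_sq hV (hP.to_le (zpowers_le.2 ht)) (hN (h1 ht))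
    (h8.trans (le_cent1_iff.2 (le_cent_comm.1 le_rfl ht)))) 2)

omit [Finite G] in
theorem ri_pre {H : Type*} [Group H] (f : X →* H) (h : A ≤ X) {B : Subgroup H} :
    (pre f B).relIndex A = B.relIndex (im f A) := by
  conv_lhs => rw [← map_subgroupOf_eq_of_le h, relIndex_map_map_of_injective _ _ X.subtype_injective, relIndex_comap]

/-- a dihedral configuration over `O₂(M)` -/
structure K2 (M A B : Subgroup G) (x : G) : Prop where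
  le : B ≤ A
  idx : B.relIndex A = 2
  inf : A ⊓ Op 2 M ≤ B
  mem : x ∈ M
  ne : x ≠ 1
  cop : (♯(zpowers x)).Coprime 6
  gen : zpowers x ≤ A ⊔ x ⋆ A
  cm : ⁅B, zpowers x⁆ ≤ Op 2 M

theorem exists_K2 (hs : IsPSolvable 2 M) (ns : NS M) (hA : AE 2 A) (h1 : A ≤ M) (h2 : ¬ A ≤ Op 2 M) :
    ∃ B x, K2 M A B x := by
  let f := QuotientGroup.mk' (pCore 2 M)
  have hf : Function.Surjective f := QuotientGroup.mk'_surjective _
  have hk : kr f = Op 2 M := H8.kr_mk' _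
  have hA' : AE 2 (im f A) := (AE.of_map (f := M.subtype) (by simp) (by
    rw [map_subgroupOf_eq_of_le h1]; exact hA)).map f
  have hc := FM.cent_Opp_le (H9.pSolv_map _ (H8.imHom_surjective f le_rfl) hs) (by rw [← H8.im_Op_eq f le_rfl
    ((H8.Op_isPGroup 2 M).to_le (inf_le_left.trans hk.le)), ← hk, H8.im_kr])
  obtain ⟨B, h3, h4, a, ha', z, hz, z1, hi⟩ := exists_inv hA' ((H8.im_mono f h1).trans (H8.le_normalizer_Opp 2 _))
    (H8.Opp_coprime 2 _) fun e => h2 (hk ▸ (H8.im_eq_bot_iff f h1).1 (eq_bot_iff.2 ((le_inf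
      ((H8.Op_eq_self (FM.ae_pg hA')).ge) ((le_inf (H8.im_mono f h1) (le_cent_comm.1 e)).trans hc)).trans
        (H8.Op_inf_Opp _ _).le)))
  obtain ⟨a, ha, rfl⟩ := (H8.mem_im f).1 ha'
  obtain ⟨u, rfl⟩ := hf z
  have ho := (H8.Opp_coprime 2 _).coprime_dvd_left (orderOf_dvd_natCard _ hz.1)
  obtain ⟨k, m, hm, e⟩ := Nat.exists_eq_two_pow_mul_odd (orderOf_pos (u⁻¹ * (a * u * a⁻¹))).ne'
  have e1 : f ((u⁻¹ * (a * u * a⁻¹)) ^ 2 ^ k) = (f u ^ 2 ^ (k + 1))⁻¹ := by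
    rw [map_pow, map_mul, map_mul, map_mul, map_inv, map_inv, hi, ← inv_pow, pow_succ', pow_mul, pow_two]
  have e2 : a * (u⁻¹ * (a * u * a⁻¹)) ^ 2 ^ k * a⁻¹ = ((u⁻¹ * (a * u * a⁻¹)) ^ 2 ^ k)⁻¹ := by
    rw [← conj_pow, ← inv_pow]
    congr 1
    calc _ = a * u⁻¹ * a⁻¹ * (a ^ 2 * u) * (a ^ 2)⁻¹ := by rw [pow_two]; group
      _ = _ := by rw [show a ^ 2 = 1 from Subtype.ext (hA.2 a ha)]; group
  have e3 : (orderOf ((u⁻¹ * (a * u * a⁻¹)) ^ 2 ^ k)).Coprime 2 := (Nat.coprime_two_right.2 hm).coprime_dvd_left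
    (orderOf_dvd_of_pow_eq_one (by rw [← pow_mul, ← e, pow_orderOf_eq_one]))
  generalize (u⁻¹ * (a * u * a⁻¹)) ^ 2 ^ k = x at e1 e2 e3
  rw [← orderOf_coe] at e3
  have e4 : (a : G) * x * (a : G)⁻¹ = (x : G)⁻¹ := congrArg Subtype.val e2
  refine ⟨A ⊓ pre f B, x, inf_le_left, ?_, inf_le_inf_left _ (hk.ge.trans (H8.kr_le_pre f B)), x.2, fun e => z1 ?_,
    ns.cop a.2 x.2 (hA.2 a ha) e3 e4, zpowers_le.2 (mem_of_inv ha (hA.2 a ha) e3 e4), ?_⟩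
  · rw [inf_relIndex_left, ri_pre f h1, h4]
  · rw [show x = 1 from Subtype.ext e, map_one, eq_comm, inv_eq_one] at e1
    exact orderOf_eq_one_iff.1 (Nat.eq_one_of_dvd_coprimes (ho.pow_right _) dvd_rfl (orderOf_dvd_of_pow_eq_one e1))
  · rw [← hk, ← H8.commutator_im_eq_bot_iff f (inf_le_left.trans h1) (zpowers_le.2 x.2), H8.im_zpowers f x.2,
      ← le_cent_iff_comm, le_cent_comm]
    exact zpowers_le.2 (H8.centralizer_anti ((H8.im_mono f inf_le_right).trans (H8.im_pre_le f))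
      (e1 ▸ inv_mem (pow_mem hz.2 _)))

theorem K2.not_norm (h : K2 M A B x) (hP : IsPGroup 2 P) (h1 : A ≤ P) : x ∉ 𝒩 P := fun e =>
  h.ne (zpowers_eq_bot.1 (le_bot_iff.1 ((le_inf le_rfl (h.gen.trans (sup_le h1 (cj_le_of_norm h1 e)))).trans
    (inf_eq_bot_of_coprime (coprime_of_pgroup hP (h.cop.coprime_dvd_right (by decide))).symm).le)))

end Cfsg.Agent.H2.Dh
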