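import Cfsg.Agent.H2.F2

/-! Primitive pairs of characteristic `2` without sections `S₃` do not exist. -/

namespace Cfsg.Agent.H2.Dh

open Subgroup Cfsg.Agent.H2 Cfsg.Agent.BG Cfsg.Agent.H2.Pr
open Cfsg.Agent.H8 (Op Opp ncl le_normalizer_Op Op_isPGroup centralizer_anti)
open Cfsg.Agent.H9 (AE MA JJ)
open scoped commutatorElement IsMulCommutative

universe u
variable {G : Type u} [Group G] [Finite G] {A B M N P V : Subgroup G} {x : G}

theorem K2.not_mem (h : K2 M A B x) (hP : IsPGroup 2 P) : x ∉ P := fun e =>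
  h.ne (zpowers_eq_bot.1 (le_bot_iff.1 ((le_inf le_rfl (zpowers_le.2 e)).trans
    (inf_eq_bot_of_coprime (coprime_of_pgroup hP (h.cop.coprime_dvd_right (by decide))).symm).le)))

omit [Finite G] in
theorem ae_cj {e : ℕ} (h : AE e A) (g : G) : AE e (g ⋆ A) := h.map _

theorem V_le (h : PP 2 M N) (s : IsPSolvable 2 M) (n : NS M) (f : F2 (VZ 2 N) N) : VZ 2 N ≤ Op 2 M := by
  by_contra hc
  have r := h.symm.red
  have h1 := (VZ_le_Op h.ch').trans h.le'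
  obtain ⟨B, x, k⟩ := exists_K2 s n r.elem h1 hc
  generalize VZ 2 N = V at *
  have hV : AE 2 V := r.elem
  have q1 : Op 2 M ≤ 𝒩 V := h.le.trans r.norm
  have qx : x ⋆ Op 2 M = Op 2 M := cj_eq_of_mem_normalizer (le_normalizer_Op 2 M k.mem)
  have q2 : Op 2 M ≤ 𝒩 (x ⋆ V) := qx.ge.trans (cj_le_norm_cj q1 x)
  have zx : x ⋆ 𝒞 (V ⊔ x ⋆ V) = 𝒞 (V ⊔ x ⋆ V) := by rw [cj_centralizer, cj_eq_of_mem (zpowers_le.1 k.gen)]
  have t1 := f.ae (Y := x ⋆ B) (cj_le_iff_forall.2 fun b hb => by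
    simpa [commutatorElement_def, mul_assoc] using
      mul_mem (inv_mem (h.le (k.cm (commutator_mem_commutator hb (mem_zpowers x))))) (r.le (k.le hb)))
    (ae_cj (hV.of_le k.le) x)
  have t2 : (𝒞 (V ⊔ x ⋆ V)).relIndex B ≤ (𝒞 V).relIndex (x ⋆ B) := by
    rw [← relIndex_cj x, zx, H1.centralizer_sup]
    exact ri_le (inf_le_inf_left _ ((cj_mono x k.le).trans (ae_cj hV x).le_centralizer))
  have t3 := (ri_le (A := 𝒞 (V ⊔ x ⋆ V)) (inf_le_left.trans (centralizer_anti ((cj_mono x k.le).trans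
    le_sup_right)))).trans (ri_le_mul _ B V)
  rw [k.idx, inf_eq_left.2 k.le] at t3
  have t4 : (𝒞 (V ⊔ x ⋆ V)).relIndex (V ⊓ Op 2 M) ≤ 2 := (ri_mono k.inf).trans (by nlinarith)
  have u1 : (V ⊓ Op 2 M) ⊔ x ⋆ (V ⊓ Op 2 M) ≤ Op 2 M := sup_le inf_le_right ((cj_mono x inf_le_right).trans qx.le)
  have c1 := (H8.commutator_le_inf_of_norm q1 (h1.trans (le_normalizer_Op 2 M))).trans
    (le_sup_left (b := x ⋆ (V ⊓ Op 2 M)))
  have c2 : ⁅x ⋆ V, Op 2 M⁆ ≤ (V ⊓ Op 2 M) ⊔ x ⋆ (V ⊓ Op 2 M) := by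
    refine le_sup_of_le_right ?_
    rw [cj_inf, qx]
    exact H8.commutator_le_inf_of_norm q2 ((cj_le_of_le h1 k.mem).trans (le_normalizer_Op 2 M))
  have c3 := sup_le (H8.le_normalizer_of_commutator_le c1 u1) (H8.le_normalizer_of_commutator_le c2 u1)
  have c4 := le_cent_of_ri k.cop ((Op_isPGroup 2 M).to_le u1) (k.gen.trans c3)
    ((ri_le (inf_le_left.trans (centralizer_anti k.gen))).trans ((ri_sup (inf_le_right.trans (by
      rw [cj_inf, qx]; exact H8.le_normalizer_inf q2 le_normalizer))).trans (Nat.mul_le_mul (m₂ := 2) t4 (by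
        rwa [← relIndex_cj x, zx] at t4))))
  refine k.not_mem (Op_isPGroup 2 M) (zpowers_le.1 (H8.le_Op_of_char h.ch (zpowers_le.2 k.mem) (le_cent_of_chain
    (k.cop.coprime_dvd_right (by decide)) (Op_isPGroup 2 M) (zpowers_le.2 (le_normalizer_Op 2 M k.mem)) ?_)))
  rw [Subgroup.commutator_comm]
  exact ((Subgroup.commutator_mono k.gen le_rfl).trans (H8.commutator_sup_le_of_norm c1 c2 c3)).trans (le_cent_comm.1 c4)

theorem cj_cent (h : PP 2 M N) (f : F2 (VZ 2 N) N) (h1 : VZ 2 N ≤ Op 2 M) (hx : x ∈ M) : x ⋆ VZ 2 N ≤ 𝒞 (VZ 2 N) := by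
  have r := h.symm.red
  have qx : x ⋆ Op 2 M = Op 2 M := cj_eq_of_mem_normalizer (le_normalizer_Op 2 M hx)
  have h2 := f.ae ((cj_mono x h1).trans (qx.le.trans h.le)) (ae_cj r.elem x)
  have h3 := h2.trans ((Nat.le_self_pow two_ne_zero _).trans
    ((f.cj x).ae (h1.trans (qx.ge.trans (cj_mono x h.le))) r.elem))
  exact le_of_ri (by nlinarith)

theorem J_le (h : PP 2 M N) (s : IsPSolvable 2 M) (n : NS M) (f : F2 (VZ 2 N) N) :
    JJ 2 (Op 2 M ⊔ Op 2 N) ≤ Op 2 M := by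
  have h1 := V_le h s n f
  have hW := h.W_ae fun x => cj_cent h f h1
  have hWQ := h.W_le h1
  refine H9.JJ_le_iff.2 fun A hA => by_contra fun hc => ?_
  have AM := hA.le.trans h.B_le
  obtain ⟨B, x, k⟩ := exists_K2 s n hA.ae AM hc
  have r := h.symm.red
  have nV := h.norm_V
  generalize VZ 2 N = V at *
  have hV : AE 2 V := r.elem
  have mx : ∀ U ≤ ncl V M, (𝒞 A).relIndex U ≤ (𝒞 U).relIndex B * 2 := fun U hU => by
    have := (ma_ri hA (hW.of_le hU) (hU.trans (hWQ.trans le_sup_left))).trans (ri_le_mul _ B A)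
    rwa [k.idx, inf_eq_left.2 k.le] at this
  have AV : A ≤ 𝒞 V := by
    have h2 := f.ae (hA.le.trans h.B_le') hA.ae
    have h3 := ma_ri hA hV (h1.trans le_sup_left)
    exact le_of_ri (by nlinarith)
  have nQ := le_normalizer_Op 2 M
  have n1 : zpowers x ≤ 𝒩 (B ⊔ Op 2 M) := H8.le_normalizer_of_commutator_le (by
    rw [Subgroup.commutator_comm]
    exact (H8.commutator_sup_le_of_norm k.cm (H8.commutator_le_left_of_norm (zpowers_le.2 (nQ k.mem)))
      (sup_le ((k.le.trans AM).trans nQ) le_normalizer)).trans le_sup_right) le_rfl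
  have n2 : A ≤ 𝒩 (B ⊔ Op 2 M) := H8.le_normalizer_sup
    ((hA.ae.le_centralizer.trans (centralizer_anti k.le)).trans (cent_le_norm _)) (AM.trans nQ)
  have n3 := sup_le n2 (cj_le_of_le n2 (zpowers_le.1 n1))
  have LM := sup_le AM (cj_le_of_le AM k.mem)
  have xL := zpowers_le.1 k.gen
  have cL := H1.centralizer_sup A (x ⋆ A)
  have AL : A ≤ A ⊔ x ⋆ A := le_sup_left
  have XL := k.gen
  generalize A ⊔ x ⋆ A = L at n3 LM xL cL AL XL
  have RB : B ⊔ Op 2 M ≤ Op 2 M ⊔ Op 2 N := sup_le (k.le.trans hA.le) le_sup_left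
  have BP : B ≤ (B ⊔ Op 2 M) ⊓ L := le_inf le_sup_left (k.le.trans AL)
  have PN : ∀ l ∈ L, (B ⊔ Op 2 M) ⊓ L ≤ l ⋆ N := fun l hl =>
    inf_le_left.trans ((cj_eq_of_mem_normalizer (n3 hl)).ge.trans (cj_mono l (RB.trans h.B_le')))
  have sl : ∀ l ∈ L, (𝒞 L).relIndex (l ⋆ V) = (𝒞 L).relIndex V := fun l hl => by
    rw [← relIndex_cj l _ V, cj_centralizer, cj_eq_of_mem hl]
  have xAV := cj_le_cent_cj AV x
  have lW : ∀ l ∈ L, l ⋆ V ≤ ncl V M := fun l hl => H8.cj_le_ncl V (LM hl)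
  have s1 : (𝒞 L).relIndex V ≤ (𝒞 (x ⋆ V)).relIndex B * 2 := by
    rw [← sl x xL, cL]
    exact (ri_le (inf_le_inf_left _ (le_cent_comm.1 xAV))).trans (mx _ (lW x xL))
  have cl : ∀ l ∈ L, (𝒞 (l ⋆ V)).relIndex B ^ 2 ≤ (𝒞 B).relIndex (l ⋆ V) := fun l hl =>
    (f.cj l).ae (BP.trans (PN l hl)) (hA.ae.of_le k.le)
  have BA : ∀ U : Subgroup G, (𝒞 B).relIndex U ≤ (𝒞 A).relIndex U := fun U =>
    ri_le (inf_le_left.trans (centralizer_anti k.le))
  have BL : ∀ l ∈ L, (𝒞 B).relIndex (l ⋆ V) ≤ (𝒞 L).relIndex V := fun l hl =>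
    (ri_le (inf_le_left.trans (centralizer_anti (k.le.trans AL)))).trans_eq (sl l hl)
  have c2 : ∀ l ∈ L, (𝒞 (l ⋆ V)).relIndex B ≤ 2 := fun l hl => by
    have := ((cl l hl).trans (BA _)).trans (mx _ (lW l hl))
    nlinarith
  have c4 : ∀ l ∈ L, ¬ B ≤ 𝒞 (l ⋆ V) → 4 ≤ (𝒞 B).relIndex (l ⋆ V) := fun l hl e =>
    (Nat.pow_le_pow_left (two_le_ri e) 2).trans (cl l hl)
  have UW : ncl V L ≤ ncl V M := H8.ncl_mono le_rfl LM
  have nU := H8.le_normalizer_ncl V L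
  have uL : (𝒞 L).relIndex (ncl V L) ≤ ((𝒞 (ncl V L)).relIndex B * 2) * ((𝒞 (ncl V L)).relIndex B * 2) := by
    rw [cL]
    refine relIndex_inf_le.trans (Nat.mul_le_mul (mx _ UW) ?_)
    have := mx _ UW
    rwa [← relIndex_cj x, cj_centralizer, cj_eq_of_mem_normalizer (nU xL)] at this
  have cU : ∀ H : Subgroup G, (∀ l ∈ L, H ≤ 𝒞 (l ⋆ V)) → H ≤ 𝒞 (ncl V L) := fun H e =>
    le_cent_comm.1 (H8.ncl_le_iff.2 fun l hl => le_cent_comm.1 (e l hl))
  by_cases hB : B ≤ 𝒞 (x ⋆ V)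
  · rw [relIndex_eq_one.2 hB] at s1
    rw [relIndex_eq_one.2 (cU B fun l hl => le_of_ri (by
      have := ((cl l hl).trans (BL l hl)).trans s1
      nlinarith))] at uL
    have := le_cent_of_ri k.cop (FM.ae_pg (hW.of_le UW)) (XL.trans nU)
      ((ri_le (inf_le_left.trans (centralizer_anti XL))).trans uL)
    exact k.not_norm h.pgB hA.le (PP.norm_B ⟨k.mem, nV ⟨k.mem, cent_le_norm _
      (centralizer_anti (H8.le_ncl V L) (zpowers_le.1 this))⟩⟩)
  have s4 := c4 x xL hB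
  have hH : 𝒞 (x ⋆ V) ⊓ B ≤ 𝒞 (ncl V L) := cU _ fun l hl => by_contra fun e => by
    have e1 : ¬ B ≤ 𝒞 (l ⋆ V) := fun e1 => e (inf_le_right.trans e1)
    have e2 := (H1.eq_or_eq_of_relIndex_prime (A := 𝒞 (l ⋆ V) ⊓ B) (B := B) (by
      rw [inf_relIndex_right, le_antisymm (c2 l hl) (two_le_ri e1)]; exact Nat.prime_two)
      (le_sup_right (a := 𝒞 (x ⋆ V) ⊓ B)) (sup_le inf_le_right inf_le_right)).resolve_left
        fun e2 => e (le_sup_left.trans (e2.le.trans inf_le_left))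
    have e3 := mx _ (sup_le (lW x xL) (lW l hl))
    rw [H1.centralizer_sup] at e3
    have e4 := (mul_le_ri (centralizer_anti (inf_le_right : 𝒞 (x ⋆ V) ⊓ B ≤ B))
      (le_inf (le_cent_comm.1 inf_le_left) (le_sup_left (b := l ⋆ V))) le_sup_right).trans (BA _)
    have e5 := (c4 l hl e1).trans (ri_le (A := 𝒞 (𝒞 (x ⋆ V) ⊓ B)) (by
      rw [← e2, H1.centralizer_sup, e2]; exact inf_le_inf_left _ (le_cent_comm.1 inf_le_left)))
    have e6 := (relIndex_inf_le (L := B)).trans (Nat.mul_le_mul (c2 x xL) (c2 l hl))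
    have e7 := Nat.mul_le_mul s4 e5
    omega
  have u2 := (ri_le hH).trans (c2 x xL)
  have s5 := s1.trans (Nat.mul_le_mul_right 2 (c2 x xL))
  have u3 := le_sup_of_ri (Z := 𝒞 L) (sup_le (H8.le_ncl V L) (H8.cj_le_ncl V xL)) ((uL.trans (Nat.mul_le_mul
    (Nat.mul_le_mul_right 2 u2) (Nat.mul_le_mul_right 2 u2))).trans ((Nat.mul_le_mul (s4.trans (BL x xL))
      (s4.trans (BA _))).trans (mul_le_ri (centralizer_anti AL) (le_inf (le_cent_comm.1 AV) le_sup_left) le_sup_right)))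
  have p1 : ∀ l ∈ L, (𝒞 (l ⋆ V)).relIndex ((B ⊔ Op 2 M) ⊓ L) ≤ 2 := fun l hl =>
    (f.cj l).ri_le (ae_cj hV l) (cj_le_norm_cj r.norm l) (h.pgB.to_le (inf_le_left.trans RB)) (PN l hl)
      ((ri_le (inf_le_left.trans (centralizer_anti inf_le_right))).trans ((sl l hl).trans_le s5))
  have p2 := p1 1 (one_mem L)
  rw [cj_one] at p2
  have p3 := comm_le_of_ri k.cop (XL.trans (H8.le_normalizer_inf n3 le_normalizer))
    (XL.trans (H8.le_normalizer_centralizer nU)) ((ri_le (A := 𝒞 V ⊓ 𝒞 (x ⋆ V)) (le_cent_comm.1 (u3.trans (sup_le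
      (sup_le (le_cent_comm.1 (inf_le_left.trans inf_le_left)) (le_cent_comm.1 (inf_le_left.trans inf_le_right)))
      (inf_le_left.trans (centralizer_anti (inf_le_right.trans inf_le_right))))))).trans
      (relIndex_inf_le.trans (Nat.mul_le_mul p2 (p1 x xL))))
  refine hB fun b hb => ?_
  simpa [commutatorElement_def, mul_assoc] using mul_mem (centralizer_anti (H8.cj_le_ncl V xL)
    (p3 (commutator_mem_commutator (BP hb) (mem_zpowers x)))) (xAV (conj_mem_cj x (k.le hb)))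

theorem not_pp (h : PP 2 M N) (s : IsPSolvable 2 M) (s' : IsPSolvable 2 N) (n : NS M) (n' : NS N) : False :=
  h.not_J (J_le h s n (f2_of_red h.symm.red s' n')) (by
    rw [sup_comm]; exact J_le h.symm s' n' (f2_of_red h.red s n))

end Cfsg.Agent.H2.Dh
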