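import Cfsg.Agent.H2.Rep34n
import Cfsg.Agent.H2.BGA

/-! Theorem B of Hall and Higman: the representation-theoretic core. -/

namespace Cfsg.Agent.H2

open Subgroup H8 Module Cfsg.Agent.BG
open scoped commutatorElement

universe u v
variable {F Γ : Type*} [Field F] [Group Γ]

section
variable {W : Type v} [AddCommGroup W] [Module F W]

/-- the endomorphisms commuting with `T` -/
def cenS (T : Module.End F W) : Submodule F (Module.End F W) where
  carrier := {φ | ∀ w, T (φ w) = φ (T w)}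
  zero_mem' := fun w => by simp
  add_mem' := fun ha hb w => by simp [ha w, hb w]
  smul_mem' := fun c _ ha w => by simp [ha w]

theorem finrank_add_le_of_inj {A B C : Type*} [AddCommGroup A] [Module F A] [AddCommGroup B] [Module F B]
    [AddCommGroup C] [Module F C] [FiniteDimensional F A] [FiniteDimensional F B] [FiniteDimensional F C]
    (Φ : A × B →ₗ[F] C) (h : ∀ a, Φ a = 0 → a = 0) : finrank F A + finrank F B ≤ finrank F C := by
  rw [← Module.finrank_prod]
  exact LinearMap.finrank_le_finrank_of_injective ((injective_iff_map_eq_zero Φ).2 h)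

/-- restriction of `T` to its range -/
def resT (T : Module.End F W) : Module.End F (LinearMap.range T) := T.restrict fun w _ => LinearMap.mem_range_self T w

theorem cen_step [FiniteDimensional F W] (T : Module.End F W) :
    finrank F (cenS (resT T)) + finrank F (LinearMap.ker T) ^ 2 ≤ finrank F (cenS T) := by
  obtain ⟨π, hπ⟩ := LinearMap.exists_leftInverse_of_injective (LinearMap.range T).subtype (Submodule.ker_subtype _)
  obtain ⟨σ, hσ⟩ := LinearMap.exists_rightInverse_of_surjective T.rangeRestrict T.range_rangeRestrict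
  have h1 : ∀ u : LinearMap.range T, π u = u := fun u => LinearMap.congr_fun hπ u
  have h2 : ∀ u : LinearMap.range T, T (σ u) = u := fun u => congrArg Subtype.val (LinearMap.congr_fun hσ u)
  have h3 : ∀ u : LinearMap.range T, (LinearMap.range T).mkQ u = 0 := fun u => (Submodule.Quotient.mk_eq_zero _).2 u.2
  let φ : cenS (resT T) × ((W ⧸ LinearMap.range T) →ₗ[F] LinearMap.ker T) → Module.End F W := fun a =>
    (LinearMap.range T).subtype ∘ₗ a.1.1 ∘ₗ π + σ ∘ₗ a.1.1 ∘ₗ T.rangeRestrict ∘ₗ (1 - (LinearMap.range T).subtype ∘ₗ π) +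
      (LinearMap.ker T).subtype ∘ₗ a.2 ∘ₗ (LinearMap.range T).mkQ
  have h4 : ∀ a w, φ a w = a.1.1 (π w) + σ (a.1.1 (T.rangeRestrict (w - π w))) + a.2 ((LinearMap.range T).mkQ w) :=
    fun _ _ => rfl
  have h5 : ∀ a (u : LinearMap.range T), φ a u = a.1.1 u := fun a u => by
    rw [h4, h1, h3, sub_self, map_zero, map_zero, map_zero, map_zero, add_zero, Submodule.coe_zero, add_zero]
  let Φ : cenS (resT T) × ((W ⧸ LinearMap.range T) →ₗ[F] LinearMap.ker T) →ₗ[F] cenS T :=
    { toFun := fun a => ⟨φ a, fun w => by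
        refine Eq.trans ?_ (h5 a (T.rangeRestrict w)).symm
        rw [h4, map_add, map_add, h2, (a.2 _).2, add_zero]
        have := congrArg Subtype.val (a.1.2 (π w))
        rw [show T (a.1.1 (π w)) = a.1.1 (resT T (π w)) from this, ← Submodule.coe_add, ← map_add]
        congr 2
        exact Subtype.ext (by simp [resT])⟩
      map_add' := fun a b => Subtype.ext (LinearMap.ext fun w => by simp [h4]; abel)
      map_smul' := fun c a => Subtype.ext (LinearMap.ext fun w => by simp [h4]) }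
  have h6 := finrank_add_le_of_inj (A := cenS (resT T)) Φ (fun a ha => by
    have e : φ a = 0 := congrArg Subtype.val ha
    have e1 : a.1 = 0 := Subtype.ext (LinearMap.ext fun u => Subtype.ext (by rw [← h5, e]; rfl))
    refine Prod.ext e1 (LinearMap.ext fun w => ?_)
    obtain ⟨w, rfl⟩ := (LinearMap.range T).mkQ_surjective w
    have := h4 a w
    rw [e, e1] at this
    exact Subtype.ext (by simpa using this.symm))
  have h7 := (LinearMap.range T).finrank_quotient_add_finrank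
  have h8 := T.finrank_range_add_finrank_ker
  rwa [Module.finrank_linearMap,
    show finrank F (W ⧸ LinearMap.range T) = finrank F (LinearMap.ker T) by omega, ← sq] at h6

end

theorem cen_bound (s : ℕ) : ∀ (W : Type v) [AddCommGroup W] [Module F W] [FiniteDimensional F W] (T : Module.End F W),
    T ^ s = 0 → finrank F W ^ 2 ≤ s * finrank F (cenS T) ∧ finrank F W ≤ finrank F (cenS T) := by
  induction s with
  | zero =>
    intro W _ _ _ T h
    have : Subsingleton W := ⟨fun a b => by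
      have := LinearMap.congr_fun h (a - b)
      exact sub_eq_zero.1 (by simpa using this)⟩
    simp [finrank_zero_of_subsingleton]
  | succ s ih =>
    intro W _ _ _ T h
    have h1 := cen_step T
    obtain ⟨h2, h3⟩ := ih _ (resT T) (by
      rw [resT, Module.End.pow_restrict]
      ext ⟨_, w, rfl⟩
      have := LinearMap.congr_fun h w
      rwa [pow_succ, Module.End.mul_apply] at this)
    rw [← T.finrank_range_add_finrank_ker]
    generalize finrank F (cenS T) = c at *
    generalize finrank F (cenS (resT T)) = e at *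
    generalize finrank F (LinearMap.range T) = d at *
    generalize finrank F (LinearMap.ker T) = a at *
    refine ⟨?_, by nlinarith⟩
    have h4 : 2 * a * d ≤ s * a ^ 2 + e := by
      rcases Nat.eq_zero_or_pos s with rfl | h0
      · obtain rfl : d = 0 := by simpa using h2
        simp
      · refine Nat.le_of_mul_le_mul_left ?_ h0
        nlinarith [two_mul_le_add_sq (s * a) d]
    nlinarith

theorem hh_arith {D N e c s : ℕ} (he : 1 ≤ e) (h1 : D ^ 2 + N * 1 = e + N * c) (h2 : D ^ 2 ≤ s * c) (h3 : D ≤ c)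
    (hs : s < N) (hD : 1 < D) : D + 1 = N ∧ e = 1 ∧ s = D := by
  obtain ⟨k, rfl⟩ : ∃ k, N = k + 1 := ⟨N - 1, by omega⟩
  have hs' : s ≤ k := by omega
  have h4 : D ^ 2 ≤ k * c := h2.trans (Nat.mul_le_mul_right _ hs')
  have h5 : D ^ 2 + k * e ≤ k * (k + 1) := by nlinarith
  have h6 : D ≤ k := by nlinarith
  have h7 : k ≤ D := by nlinarith
  obtain rfl : D = k := le_antisymm h6 h7
  obtain rfl : e = 1 := by nlinarith
  obtain rfl : c = D := by nlinarith
  exact ⟨rfl, rfl, by nlinarith⟩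

variable {W : Type v} [AddCommGroup W] [Module F W]

theorem fixS_linHom_zpowers (ρ : Representation F Γ W) (x : Γ) : fixS (ρ.linHom ρ) (zpowers x) = cenS (ρ x - 1) := by
  ext T
  rw [mem_fixS_zpowers]
  refine ((by rw [one_smul]) : _ ↔ _ = (1 : F) • T).trans ((linHom_eq_smul_iff ρ x T 1).trans (forall_congr' fun w => ?_))
  simp

theorem pow_gcd_mem {S : Subgroup Γ} {x : Γ} {l m : ℕ} (h1 : x ^ l ∈ S) (h2 : x ^ m ∈ S) : x ^ l.gcd m ∈ S := by
  rw [← zpow_natCast, Nat.gcd_eq_gcd_ab, zpow_add, zpow_mul, zpow_mul, zpow_natCast, zpow_natCast]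
  exact mul_mem (zpow_mem h1 _) (zpow_mem h2 _)

theorem exists_pow_mem {S : Subgroup Γ} {x : Γ} {p l a : ℕ} (hp : p.Prime) (h1 : x ^ l ∈ S) (h2 : x ^ p ^ a ∈ S)
    (h3 : ¬ p ^ a ∣ l) : ∃ b < a, x ^ p ^ b ∈ S := by
  obtain ⟨b, hb, e⟩ := (Nat.dvd_prime_pow hp).1 (Nat.gcd_dvd_right l (p ^ a))
  exact ⟨b, lt_of_le_of_ne hb fun e' => h3 (by rw [← e', ← e]; exact Nat.gcd_dvd_left _ _), e ▸ pow_gcd_mem h1 h2⟩

variable [Finite Γ]

theorem pow_mem_zpowers_of_ne {x z : Γ} {p n : ℕ} (hp : p.Prime) (ho : orderOf x = p ^ (n + 1)) (hz : z ∈ zpowers x)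
    (h1 : z ≠ 1) : x ^ p ^ n ∈ zpowers z := by
  obtain ⟨l, rfl⟩ := mem_powers_iff_mem_zpowers.2 hz
  obtain ⟨b, hb, h⟩ := exists_pow_mem (a := n + 1) hp (mem_zpowers (x ^ l)) (by rw [← ho, pow_orderOf_eq_one]; exact one_mem _)
    fun e => h1 (orderOf_dvd_iff_pow_eq_one.1 (ho ▸ e))
  obtain ⟨c, rfl⟩ := Nat.exists_eq_add_of_le (Nat.le_of_lt_succ hb)
  rw [pow_add, pow_mul]
  exact pow_mem h _

theorem pr_pow_sub {ρ : Representation F Γ W} {A : Subgroup Γ} (hA : (♯A : F) ≠ 0) {x : normalizer (A : Set Γ)}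
    {μ : A →* Fˣ} {k : ℕ} (hk : ∀ l, 0 < l → l < k → cjw (x ^ l) μ ≠ μ) {w : W} (hw : w ∈ wt ρ A μ) (i : ℕ) :
    ∀ l, l + i < k → pr ρ A μ (ρ (x ^ l : normalizer (A : Set Γ)) (((ρ x - 1) ^ i) w)) =
      if l = 0 then (-1 : F) ^ i • w else 0 := by
  induction i with
  | zero =>
    intro l hl
    split_ifs with h
    · subst h; simpa using pr_of_mem hA hw
    · exact pr_of_ne (hk l (Nat.pos_of_ne_zero h) hl).symm (rep_mem_wt (x ^ l) hw)
  | succ i ih =>
    intro l hl
    rw [pow_succ', Module.End.mul_apply, LinearMap.sub_apply, Module.End.one_apply, map_sub, map_sub, ← rep_mul_apply,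
      ← coe_mul, ← pow_succ, ih _ (by omega), ih _ (by omega), if_neg l.succ_ne_zero]
    split_ifs
    · rw [pow_succ', mul_smul, neg_one_smul, zero_sub]
    · exact sub_zero _

theorem sub_one_pow_char {p : ℕ} [Fact p.Prime] [CharP F p] (T : Module.End F W) (a : ℕ) :
    (T - 1) ^ p ^ a = T ^ p ^ a - 1 := by
  have := congrArg (Polynomial.aeval T) (sub_pow_char_pow (R := Polynomial F) (p := p) (n := a) Polynomial.X 1)
  simpa using this

theorem hh_ind {p : ℕ} [hp : Fact p.Prime] [CharP F p] {ρ : Representation F Γ W} {A : Subgroup Γ} (hA : (♯A : F) ≠ 0)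
    {x : normalizer (A : Set Γ)} {μ : A →* Fˣ} {a j r : ℕ} (hk : ∀ l, 0 < l → l < p ^ a → cjw (x ^ l) μ ≠ μ)
    (h1 : cjw (x ^ p ^ a) μ = μ) {w : W} (hw : w ∈ wt ρ A μ) (hr : (ρ x - 1) ^ r = 0) (hlt : r < p ^ a * (j + 1)) :
    ((ρ ((x : Γ) ^ p ^ a) - 1) ^ j : Module.End F W) w = 0 := by
  have h2 : ∀ j, ((ρ ((x : Γ) ^ p ^ a) - 1) ^ j : Module.End F W) w ∈ wt ρ A μ := fun j => by
    induction j with
    | zero => exact hw
    | succ j ih =>
      rw [pow_succ', Module.End.mul_apply, LinearMap.sub_apply]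
      exact sub_mem (h1 ▸ rep_mem_wt (x ^ p ^ a) ih) ih
  have h0 := pow_pos hp.out.pos a
  have h3 := pr_pow_sub hA hk (h2 j) (p ^ a - 1) 0 (by omega)
  rw [map_pow, ← sub_one_pow_char, ← pow_mul, ← Module.End.mul_apply ((ρ x - 1) ^ _), ← pow_add,
    pow_eq_zero_of_le (by rw [mul_add] at hlt; omega) hr, LinearMap.zero_apply, map_zero, map_zero, if_pos rfl] at h3
  rw [map_pow, ← sub_one_pow_char, ← pow_mul]
  exact (smul_eq_zero.1 h3.symm).resolve_left (pow_ne_zero _ (neg_ne_zero.2 one_ne_zero))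

variable [FiniteDimensional F W] [IsAlgClosed F]

theorem hh_crit [Nontrivial W] {ρ : Representation F Γ W} {K : Subgroup Γ} {x : Γ} (hirr : IrrOn ρ (K ⊔ zpowers x))
    (hn : x ∈ 𝒩 K) (hK : (♯K : F) ≠ 0) (hf : ∀ z ∈ zpowers x, z ≠ 1 → K ≤ ⁅K, zpowers z⁆) {μ : ↥⁅K, K⁆ →* Fˣ}
    (hμ : μ ≠ 1) (hw : ∀ w, w ∈ wt ρ _ μ) {s : ℕ} (hs : (ρ x - 1) ^ s = 0) (hlt : s < orderOf x) :
    finrank F W + 1 = orderOf x ∧ s = finrank F W ∧ finrank F W ≠ 1 ∧ finrank F W ^ 2 ∣ ♯K ∧ IrrOn ρ K := by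
  have h1 : finrank F W ≠ 1 := fun h6 => by
    obtain ⟨u, hu0⟩ := exists_ne (0 : W)
    have h7 := mem_fixS_iff_le.2 (der_le_stabV (ρ := ρ) (Y := K) (w := u) fun k hk =>
      exists_smul_of_finrank_le_one (U := ⊤) (by rw [finrank_top, h6]) trivial trivial hu0)
    rw [← wt_one] at h7
    exact hμ (eq_of_mem_wt hu0 (hw u) h7)
  have h3 : fixS (ρ.linHom ρ) ⁅K, K⁆ = ⊤ := eq_top_iff.2 fun T _ => mem_fixS_linHom.2 fun z hz w => by
    rw [hw _ ⟨z, hz⟩, hw _ ⟨z, hz⟩, map_smul]
  have h4 := wielandt_step (ρ.linHom ρ) (zpowers_le.2 hn) hK hf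
  rw [h3, finrank_top, Module.finrank_linearMap, ← sq, fixS_sup _ ⁅K, K⁆, h3, top_inf_eq,
    fixS_linHom_eq_span fun T hT => hirr.schur hT, finrank_span_singleton one_ne_zero, fixS_linHom_zpowers,
    Nat.card_zpowers] at h4
  have h5 : (1 : Module.End F W) ∈ fixS (ρ.linHom ρ) K := mem_fixS_linHom.2 fun _ _ _ => rfl
  obtain ⟨h6, h7⟩ := cen_bound s W _ hs
  have h0 : 0 < finrank F W := Module.finrank_pos
  obtain ⟨h8, h9, h10⟩ := hh_arith (Nat.one_le_iff_ne_zero.2 fun e => one_ne_zero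
    ((Submodule.finrank_eq_zero.1 e).le h5)) h4 h6 h7 hlt (by omega)
  have h11 := irrOn_of_scalar hK fun T hT => by
    obtain ⟨c, hc⟩ := exists_smul_of_finrank_le_one h9.le h5 hT one_ne_zero
    exact ⟨c, fun w => by rw [hc]; rfl⟩
  refine ⟨h8, h10, h1, ?_, h11⟩
  rw [h11.finrank_sq hK h3, ← card_char hK]
  exact (card_subgroup_dvd_card _).mul_right _

end Cfsg.Agent.H2
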