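import Cfsg.Agent.H2.HHB
import Cfsg.Agent.H2.FM
import Cfsg.Agent.GS.MinAct
import Cfsg.Agent.BG.LAux

/-! Theorem B of Hall and Higman. -/

namespace Cfsg.Agent.H2

open Subgroup H8 Module Cfsg.Agent.BG TensorProduct
open scoped commutatorElement

universe u v
variable {F Γ : Type*} [Field F] [Group Γ] {W : Type v} [AddCommGroup W] [Module F W]

/-- the stabilizer of a character -/
def stabW {A : Subgroup Γ} (μ : A →* Fˣ) : Subgroup (normalizer (A : Set Γ)) where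
  carrier := {g | cjw g μ = μ}
  one_mem' := cjw_one μ
  mul_mem' := fun {a b} ha hb => (cjw_mul a b μ).trans (by rw [show cjw b μ = μ from hb]; exact ha)
  inv_mem' := fun {a} ha => by
    have := cjw_inv_cjw a μ
    rwa [show cjw a μ = μ from ha] at this

theorem min_of_irrOn_subRep {ρ : Representation F Γ W} {H K : Subgroup Γ} (hK : K ≤ H) {U : Submodule F W}
    (h : ∀ g ∈ H, ∀ w ∈ U, ρ g w ∈ U) (hi : IrrOn (subRep ρ H U h) (K.subgroupOf H)) :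
    ∀ U₁ ≤ U, (∀ g ∈ K, ∀ w ∈ U₁, ρ g w ∈ U₁) → U₁ = ⊥ ∨ U₁ = U := fun U₁ h1 h2 =>
  (hi (U₁.comap U.subtype) fun g hg w hw => h2 g hg w hw).imp
    (fun e => eq_bot_iff.2 fun w hw =>
      (Submodule.mem_bot F).2 (congrArg Subtype.val ((Submodule.mem_bot F).1 (e.le (x := (⟨w, h1 hw⟩ : U)) hw))))
    fun e => le_antisymm h1 fun w hw => e.ge (Submodule.mem_top (x := (⟨w, hw⟩ : U)))

variable [Finite Γ] [FiniteDimensional F W] {p : ℕ} [hp : Fact p.Prime] [CharP F p]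

theorem hh_rep [IsAlgClosed F] (ρ : Representation F Γ W) {Q : Subgroup Γ} {x : Γ} {n r : ℕ} (hx : x ∈ 𝒩 Q)
    (hQ : (♯Q : F) ≠ 0) (ho : orderOf x = p ^ (n + 1)) (hc : Q ≤ ⁅Q, zpowers (x ^ p ^ n)⁆) (h1 : ⁅Q, Q⁆ ≤ 𝒞 Q)
    (h2 : x ^ p ^ n ∈ 𝒞 ⁅Q, Q⁆) (hne : ¬ Q ≤ MonoidHom.ker ρ) (hr : (ρ x - 1) ^ r = 0) (hlt : r < p ^ (n + 1)) :
    ∃ a ≤ n, ∃ (μ : ↥⁅Q, Q⁆ →* Fˣ) (U : Submodule F W), μ ≠ 1 ∧ U ≤ wt ρ _ μ ∧ U ≠ ⊥ ∧
      (∀ g ∈ Q ⊔ zpowers (x ^ p ^ a), ∀ w ∈ U, ρ g w ∈ U) ∧ finrank F U + 1 = p ^ (n + 1 - a) ∧ finrank F U ≠ 1 ∧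
      finrank F U ^ 2 ∣ ♯Q ∧ p ^ a * finrank F U ≤ r ∧
      (∀ U₁ ≤ U, (∀ g ∈ Q, ∀ w ∈ U₁, ρ g w ∈ U₁) → U₁ = ⊥ ∨ U₁ = U) ∧ (x ∈ 𝒞 ⁅Q, Q⁆ → a = 0) := by
  classical
  have hf : ∀ z ∈ zpowers x, z ≠ 1 → Q ≤ ⁅Q, zpowers z⁆ := fun z hz h => hc.trans
    (Subgroup.commutator_mono le_rfl (zpowers_le.2 (pow_mem_zpowers_of_ne hp.out ho hz h)))
  have h3 : fixS ρ ⁅Q, Q⁆ ≤ fixS ρ Q := by
    by_contra h
    obtain ⟨μ, hμ, w, hw, hw0⟩ := exists_wt_ne_bot hQ h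
    refine hw0 (hh_ind (x := ⟨x, hx⟩) (a := n + 1) (j := 0) hQ (fun l h4 h5 e => hμ (eq_one_of_cjw_eq
      (hf _ (pow_mem (mem_zpowers x) l) (pow_ne_one_of_lt_orderOf h4.ne' (ho ▸ h5))) e)) ?_ hw hr (by simpa using hlt))
    rw [show (⟨x, hx⟩ ^ p ^ (n + 1) : normalizer (Q : Set Γ)) = 1 from Subtype.ext (ho ▸ pow_orderOf_eq_one x), cjw_one]
  have hNQ := comm_self_le Q
  have hN0 := natCast_ne_zero_of_dvd (card_dvd_of_le hNQ) hQ
  have hNN : ⁅⁅Q, Q⁆, ⁅Q, Q⁆⁆ = ⊥ := commutator_eq_bot_iff_le_centralizer.2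
    (h1.trans (centralizer_le (SetLike.coe_subset_coe.2 hNQ)))
  obtain ⟨μ, hμ, w, hw, hw0⟩ := exists_wt_ne_bot (ρ := ρ) hN0 (by
    rw [hNN, fixS_bot]
    exact fun e => hne (fixS_eq_top_iff.1 (eq_top_iff.2 (e.trans h3))))
  let y : normalizer ((⁅Q, Q⁆ : Subgroup Γ) : Set Γ) :=
    ⟨x, H1.le_normalizer_commutator (zpowers_le.2 hx) (zpowers_le.2 hx) (mem_zpowers x)⟩
  have h4 : y ^ p ^ n ∈ stabW μ := cjw_eq_of_cent _ h2 μ
  have h5 : ∃ a, y ^ p ^ a ∈ stabW μ := ⟨n, h4⟩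
  have h6 := Nat.find_spec h5
  have h7 : Nat.find h5 ≤ n := Nat.find_min' h5 h4
  have h8 : ∀ l, 0 < l → l < p ^ Nat.find h5 → cjw (y ^ l) μ ≠ μ := fun l hl hl' e => by
    obtain ⟨b, hb, h⟩ := exists_pow_mem hp.out e h6 (Nat.not_dvd_of_pos_of_lt hl hl')
    exact Nat.find_min h5 hb h
  have h10 : x ∈ 𝒞 ⁅Q, Q⁆ → Nat.find h5 = 0 := fun h => (Nat.find_eq_zero h5).2
    (cjw_eq_of_cent _ (by simpa using h) μ)
  generalize Nat.find h5 = a at h6 h7 h8 h10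
  have h9 : Q ⊔ zpowers (x ^ p ^ a) ≤ (stabW μ).map (Subgroup.subtype _) := sup_le
    (fun g hg => ⟨⟨g, le_norm_der Q hg⟩, cjw_eq_of_cent _ (le_centralizer_iff.1 h1 hg) μ, rfl⟩)
    (zpowers_le.2 ⟨_, h6, rfl⟩)
  obtain ⟨U, hU1, hU2, hU3, hU4⟩ := exists_min_inv ρ (Q ⊔ zpowers (x ^ p ^ a)) (U := wt ρ _ μ)
    ((Submodule.ne_bot_iff _).2 ⟨w, hw, hw0⟩) fun g hg v hv => by
      obtain ⟨g, h, rfl⟩ := h9 hg
      exact (show cjw g μ = μ from h) ▸ rep_mem_wt g hv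
  haveI : Nontrivial U := Submodule.nontrivial_iff_ne_bot.2 hU2
  let z : ↥(Q ⊔ zpowers (x ^ p ^ a)) := ⟨x ^ p ^ a, mem_sup_right (mem_zpowers _)⟩
  have hl : Q ≤ Q ⊔ zpowers (x ^ p ^ a) := le_sup_left
  have e1 : Q.subgroupOf (Q ⊔ zpowers (x ^ p ^ a)) ⊔ zpowers z = ⊤ := by
    rw [← zpowers_subgroupOf, ← subgroupOf_sup hl le_sup_right, subgroupOf_self]
  have e2 := H1.card_subgroupOf hl
  have e4 := subgroupOf_commutator hl hl
  have e5 : orderOf z = p ^ (n + 1 - a) := by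
    rw [← Subgroup.orderOf_coe, orderOf_pow_of_dvd (pow_pos hp.out.pos a).ne' (ho ▸ pow_dvd_pow p (by omega)), ho,
      Nat.pow_div (by omega) hp.out.pos]
  let f : ↥⁅Q.subgroupOf (Q ⊔ zpowers (x ^ p ^ a)), Q.subgroupOf (Q ⊔ zpowers (x ^ p ^ a))⁆ →* ↥⁅Q, Q⁆ :=
    ((Subgroup.subtype _).comp (Subgroup.subtype _)).codRestrict _ fun x => e4.ge x.2
  obtain ⟨k1, k2, k3, k4, k5⟩ := hh_crit (ρ := subRep ρ _ U hU3) (x := z) (e1 ▸ irrOn_subRep hU3 hU4)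
    (subgroupOf_le_normalizer (H := zpowers (x ^ p ^ a)) (zpowers_le.2 (pow_mem hx _)) (mem_zpowers _)) (by rwa [e2])
    (fun t ht ht1 => by
      rw [← zpowers_subgroupOf, ← subgroupOf_commutator hl (zpowers_le.2 t.2)]
      rw [← zpowers_subgroupOf] at ht
      exact comap_mono (hf _ (zpowers_le.2 (pow_mem (mem_zpowers x) _) ht) fun e => ht1 (Subtype.ext e)))
    (μ := μ.comp f) (fun e => hμ (MonoidHom.ext fun a => DFunLike.congr_fun e ⟨⟨a, hl (hNQ a.2)⟩, e4.le a.2⟩))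
    (fun u a => Subtype.ext (hU1 u.2 (f a))) (s := r / p ^ a) (by
      have : ∀ j (u : U), (((subRep ρ _ U hU3 z - 1) ^ j : Module.End F U) u : W) =
          ((ρ (x ^ p ^ a) - 1) ^ j : Module.End F W) u := fun j u => by
        induction j with
        | zero => rfl
        | succ j ih => rw [pow_succ', pow_succ', Module.End.mul_apply, Module.End.mul_apply, ← ih]; rfl
      ext u
      rw [this]
      exact hh_ind (x := y) hN0 h8 h6 (hU1 u.2) hr (Nat.lt_mul_div_succ r (pow_pos hp.out.pos a)))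
    (by rw [e5, Nat.div_lt_iff_lt_mul (pow_pos hp.out.pos a), ← pow_add]; rwa [Nat.sub_add_cancel (by omega)])
  exact ⟨a, h7, μ, U, hμ, hU1, hU2, hU3, k1.trans e5, k3, e2 ▸ k4, k2 ▸ Nat.mul_div_le r _,
    min_of_irrOn_subRep hl hU3 k5, h10⟩

omit [CharP F p] in
theorem exists_minAct_of_pSolv (hs : IsPSolvable p Γ) (hO : pCore p Γ = ⊥) {A B : Subgroup Γ} (hB : IsPGroup p B)
    (hA : A ≤ B) (hn : B ≤ 𝒩 A) (h1 : A ≠ ⊥) : ∃ q, q.Prime ∧ q ≠ p ∧ ∃ Q, GS.MinAct q B A Q := by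
  by_contra h
  have h2 : (♯(pPrimeCore p Γ)).Coprime p := by rw [← H8.Opp_top]; exact H8.Opp_coprime _ _
  have h3 : A ≤ pPrimeCore p Γ := (le_centralizer_iff.1 (BL.le_of_forall_sylIn fun q hq => by
    have := Fact.mk hq
    obtain ⟨S, a, b⟩ := H8.exists_inv_sylIn hB le_normalizer_of_normal h2 q
    refine ⟨S, a, le_centralizer_iff.1 ?_⟩
    by_contra h4
    have h5 : q ≠ p := fun e => h4 (by
      rw [eq_bot_of_pgroup_coprime (e ▸ a.pgrp) (BG.coprime_of_le_left h2 a.le), centralizer_bot_eq]; exact le_top)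
    obtain ⟨U, -, hU⟩ := GS.exists_minAct a.pgrp b hA hn (coprime_primes_pgroup (hB.to_le hA) h5.symm) h4
    exact h ⟨q, hq, h5, U, hU⟩)).trans (FM.centralizer_pPrimeCore_le hs hO)
  exact h1 (eq_bot_of_pgroup_coprime (hB.to_le hA) (BG.coprime_of_le_left h2 h3))

/-- the exceptional alternative of Theorem B -/
def HHExc (Γ : Type*) [Group Γ] (p n r : ℕ) : Prop := ∃ n₀ q m : ℕ, 1 ≤ n₀ ∧ n₀ ≤ n ∧ q.Prime ∧ 1 ≤ m ∧
  p ^ n₀ - 1 = q ^ m ∧ (∃ Q : Subgroup Γ, IsPGroup q Q ∧ ⁅Q, Q⁆ ≠ ⊥) ∧ p ^ (n - n₀) * (p ^ n₀ - 1) ≤ r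

omit [Finite Γ] hp in
theorem natCast_card_ne_zero [Finite Γ] [Fact p.Prime] {Q : Subgroup Γ} (h : (♯Q).Coprime p) : (♯Q : F) ≠ 0 := fun e =>
  (Nat.Prime.coprime_iff_not_dvd Fact.out).1 h.symm ((CharP.cast_eq_zero_iff F p _).1 e)

theorem hh_closed [IsAlgClosed F] (ρ : Representation F Γ W) (hρ : MonoidHom.ker ρ = ⊥) (hs : IsPSolvable p Γ)
    (hO : pCore p Γ = ⊥) {x : Γ} {n r : ℕ} (ho : orderOf x = p ^ (n + 1)) (hr : (ρ x - 1) ^ r = 0)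
    (hlt : r < p ^ (n + 1)) : HHExc Γ p (n + 1) r := by
  obtain ⟨q, hq, hqp, Q, h⟩ := exists_minAct_of_pSolv hs hO (A := zpowers (x ^ p ^ n)) (B := zpowers x)
    (IsPGroup.of_card (Nat.card_zpowers x ▸ ho)) (zpowers_le.2 (pow_mem (mem_zpowers x) _))
    ((zpowers_le.2 (mem_centralizer_iff.2 fun y hy => by
      obtain ⟨k, rfl⟩ := hy
      simp only [← zpow_natCast, ← zpow_mul]
      exact ((Commute.refl x).zpow_left _).eq)).trans (cent_le_norm _))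
    (by rw [Ne, zpowers_eq_bot]; exact pow_ne_one_of_lt_orderOf (pow_pos hp.out.pos n).ne'
          (ho ▸ Nat.pow_lt_pow_right hp.out.one_lt n.lt_succ_self))
  have := Fact.mk hq
  obtain ⟨a, ha, μ, U, hμ, -, -, -, h1, h2, h3, h4, -⟩ := hh_rep ρ (h.norm (mem_zpowers x))
    (natCast_card_ne_zero (coprime_primes_pgroup h.pgrp hqp)) ho h.comm.ge (h.phi_eq ▸ h.phi_le_cent)
    (h.phi_eq ▸ h.le_cent_phi (mem_zpowers _)) (fun e => h.ne_bot (eq_bot_iff.2 (e.trans hρ.le))) hr hlt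
  obtain ⟨k, hk⟩ := h.pgrp.exists_card_eq
  obtain ⟨m, -, hm⟩ := (Nat.dvd_prime_pow hq).1 (((dvd_pow_self _ two_ne_zero).trans h3).trans hk.dvd)
  refine ⟨n + 1 - a, q, m, by omega, by omega, hq, Nat.pos_of_ne_zero fun e => h2 (by rw [hm, e, pow_zero]),
    by omega, ⟨Q, h.pgrp, fun e => hμ (MonoidHom.ext fun b => ?_)⟩, ?_⟩
  · rw [show b = 1 from Subtype.ext (mem_bot.1 (e.le b.2)), map_one, map_one]
  · rwa [← h1, Nat.add_sub_cancel, Nat.sub_sub_self (by omega)]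

/-- extension of scalars of a representation -/
noncomputable def bcRep (K : Type*) [Field K] [Algebra F K] (ρ : Representation F Γ W) : Representation K Γ (K ⊗[F] W) :=
  (Module.End.baseChangeHom F K W).toMonoidHom.comp ρ

omit [Finite Γ] [FiniteDimensional F W] in
theorem bcRep_apply (K : Type*) [Field K] [Algebra F K] (ρ : Representation F Γ W) (g : Γ) :
    bcRep K ρ g = Module.End.baseChangeHom F K W (ρ g) := rfl

omit [Finite Γ] [FiniteDimensional F W] in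
theorem ker_bcRep (K : Type*) [Field K] [Algebra F K] (ρ : Representation F Γ W) :
    MonoidHom.ker (bcRep K ρ) = MonoidHom.ker ρ := by
  ext g
  refine ⟨fun h => LinearMap.ext fun w => ?_, fun h => ?_⟩
  · have := LinearMap.congr_fun (MonoidHom.mem_ker.1 h) (1 ⊗ₜ w)
    exact Module.FaithfullyFlat.tensorProduct_mk_injective (A := F) (B := K) W this
  · rw [MonoidHom.mem_ker, bcRep_apply, MonoidHom.mem_ker.1 h, map_one]

/-- Theorem B -/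
theorem hhB (ρ : Representation F Γ W) (hρ : MonoidHom.ker ρ = ⊥) (hs : IsPSolvable p Γ)
    (hO : pCore p Γ = ⊥) {x : Γ} {n r : ℕ} (ho : orderOf x = p ^ (n + 1)) (hr : (ρ x - 1) ^ r = 0)
    (hlt : r < p ^ (n + 1)) : HHExc Γ p (n + 1) r :=
  hh_closed (bcRep (AlgebraicClosure F) ρ) ((ker_bcRep _ ρ).trans hρ) hs hO ho (by
    have := congrArg (Module.End.baseChangeHom F (AlgebraicClosure F) W) hr
    rwa [map_pow, map_sub, map_one, map_zero] at this) hlt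

end Cfsg.Agent.H2
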