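import Cfsg.Agent.H2.HHG
import Cfsg.Agent.H2.Loc

/-! Quadratic elements of `p`-soluble linear groups in odd characteristic `p`. -/

namespace Cfsg.Agent.H2

open Subgroup H8 Module Cfsg.Agent.BG
open scoped commutatorElement

universe u v
variable {F Γ : Type*} [Field F] [Group Γ] {W : Type v} [AddCommGroup W] [Module F W]

theorem exists_moved {ρ : Representation F Γ W} {Q : Subgroup Γ} {a : Γ} (hc : Q ≤ ⁅Q, zpowers a⁆) {μ : ↥⁅Q, Q⁆ →* Fˣ}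
    (hμ : μ ≠ 1) {U : Submodule F W} (h1 : U ≤ wt ρ _ μ) (h2 : U ≠ ⊥) (h3 : ∀ g ∈ Q, ∀ w ∈ U, ρ g w ∈ U) :
    ∃ v ∈ U, (ρ a - 1) v ≠ 0 := by
  by_contra h
  push Not at h
  obtain ⟨u, hu, hu0⟩ := (Submodule.ne_bot_iff U).1 h2
  have h4 : ∀ b ∈ zpowers a, ∀ v ∈ U, ρ b v = v := fun b hb v hv =>
    (zpowers_le.2 (show a ∈ stabV ρ v from sub_eq_zero.1 (h v hv)) : _ ≤ stabV ρ v) hb
  refine hμ (eq_of_mem_wt hu0 (h1 hu) (wt_one ρ _ ▸ mem_fixS_iff_le.2 ((comm_self_le Q).trans (hc.trans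
    (commutator_le.2 fun k hk b hb => ?_)))))
  show ρ _ u = u
  rw [commutatorElement_def, rep_mul_apply, h4 _ (inv_mem hb) u hu, rep_mul_apply, rep_mul_apply,
    h4 b hb _ (h3 _ (inv_mem hk) u hu), rep_apply_inv]

theorem cjw_commChar {Q : Subgroup Γ} (hZ : ⁅Q, Q⁆ ≤ 𝒞 Q) {μ : ↥⁅Q, Q⁆ →* Fˣ} {b : normalizer (Q : Set Γ)}
    {hb : (b : Γ) ∈ 𝒩 ⁅Q, Q⁆} (h : cjw ⟨(b : Γ), hb⟩ μ = μ) (k : Q) :
    cjw b (commChar hZ μ k) = commChar hZ μ (Q.normalizerMonoidHom b k) := MonoidHom.ext fun a => by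
  rw [cjw_apply, commChar_apply, commChar_apply]
  conv_rhs => rw [← h, cjw_apply]
  refine congrArg μ (Subtype.ext ?_)
  simp only [coe_nmh, coe_inv, commutatorElement_def]
  group

variable [Finite Γ] [FiniteDimensional F W] {p : ℕ} [hp : Fact p.Prime]

theorem card_range_commChar_le {ρ : Representation F Γ W} {Q : Subgroup Γ} (hZ : ⁅Q, Q⁆ ≤ 𝒞 Q) (hQ : (♯Q : F) ≠ 0)
    {μ : ↥⁅Q, Q⁆ →* Fˣ} {U : Submodule F W} (h1 : U ≤ wt ρ _ μ) (h2 : U ≠ ⊥) (h3 : ∀ g ∈ Q, ∀ w ∈ U, ρ g w ∈ U) :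
    ♯(commChar hZ μ).range ≤ finrank F U ^ 2 := by
  haveI : Nontrivial U := Submodule.nontrivial_iff_ne_bot.2 h2
  letI := Fintype.ofFinite (commChar hZ μ).range
  let τ := subRep ρ Q U h3
  choose k hk using fun l : (commChar hZ μ).range => l.2
  have h4 : ∀ l, τ (k l) ∈ wt (τ.linHom τ) ⊤ (l.1.comp (Subgroup.subtype _)) := fun l =>
    mem_wt_linHom.2 fun a w => Subtype.ext (by
      show ρ _ (ρ _ w) = ((l.1 a : Fˣ) : F) • ρ _ (ρ _ w)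
      rw [← hk l, commChar_apply, ← mem_wt.1 (h1 (h3 _ (k l).2 _ (h3 _ a.1.2 _ w.2))), ← rep_mul_apply,
        ← rep_mul_apply, ← rep_mul_apply]
      congr 2
      simp only [commutatorElement_def]; group)
  have h5 : LinearIndependent F fun l => τ (k l) := linearIndependent_iff'.2 fun s g hg l hl => by
    have := congrArg (pr (τ.linHom τ) ⊤ (l.1.comp (Subgroup.subtype _))) hg
    rw [map_sum, map_zero, Finset.sum_eq_single l (fun m _ hm => by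
      rw [map_smul, pr_of_ne (fun e => hm (Subtype.ext (MonoidHom.ext fun a =>
        (DFunLike.congr_fun e ⟨a, trivial⟩).symm))) (h4 m), smul_zero]) (fun h => absurd hl h), map_smul,
      pr_of_mem (by rwa [card_top]) (h4 l)] at this
    exact (smul_eq_zero.1 this).resolve_right (τ.asGroupHom (k l)).ne_zero
  have h6 := h5.fintype_card_le_finrank
  rwa [Module.finrank_linearMap, ← sq, ← Nat.card_eq_fintype_card] at h6

theorem der_le_ker_of_perm {X : Type*} [Finite X] (hX : Nat.card X ≤ 4) (hp2 : p ≠ 2) (hB : IsPGroup p Γ)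
    (φ : Γ →* Equiv.Perm X) : commutator Γ ≤ φ.ker := by
  obtain ⟨n, hn⟩ := (hB.of_surjective _ φ.rangeRestrict_surjective).exists_card_eq
  have h1 : p ^ n ∣ 2 ^ 3 * 3 := hn ▸ (card_subgroup_dvd_card φ.range).trans (by
    rw [Nat.card_perm]; exact Nat.factorial_dvd_factorial hX)
  have h2 := (((Nat.coprime_primes hp.out Nat.prime_two).2 hp2).pow n 3).dvd_of_dvd_mul_left h1
  have := Fact.mk Nat.prime_three
  have : IsCyclic φ.range := isCyclic_of_card_dvd_prime (hn ▸ h2)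
  refine commutator_le.2 fun a _ b _ => ?_
  rw [MonoidHom.mem_ker, map_commutatorElement, commutatorElement_eq_one_iff_mul_comm]
  exact congrArg Subtype.val ((IsCyclic.commGroup (α := φ.range)).mul_comm ⟨_, a, rfl⟩ ⟨_, b, rfl⟩)

theorem eq_one_of_small {Q B : Subgroup Γ} (hZ : ⁅Q, Q⁆ ≤ 𝒞 Q) {μ : ↥⁅Q, Q⁆ →* Fˣ} (k1 : B ≤ 𝒩 Q)
    (h3 : ∀ b (hb : b ∈ B), cjw ⟨b, H1.le_normalizer_commutator k1 k1 hb⟩ μ = μ) (k7 : ♯(commChar hZ μ).range ≤ 4)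
    (hp2 : p ≠ 2) (hB : IsPGroup p B) {a : Γ} (ha : a ∈ ⁅B, B⁆) (k3 : Q ≤ ⁅Q, zpowers a⁆) : μ = 1 := by
  letI : MulAction B (commChar hZ μ).range :=
    { smul := fun b l => ⟨cjw ⟨b, k1 b.2⟩ l, by
        obtain ⟨_, k, rfl⟩ := l
        exact ⟨_, (cjw_commChar hZ (b := ⟨b, k1 b.2⟩) (h3 b b.2) k).symm⟩⟩
      one_smul := fun l => Subtype.ext (cjw_one _)
      mul_smul := fun b c l => Subtype.ext (cjw_mul ⟨(b : Γ), k1 b.2⟩ ⟨(c : Γ), k1 c.2⟩ _) }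
  have h4 := der_le_ker_of_perm k7 hp2 hB (MulAction.toPermHom B (commChar hZ μ).range)
    (x := ⟨a, comm_self_le B ha⟩) (by
      rw [commutator_def, ← subgroupOf_self, ← subgroupOf_commutator le_rfl le_rfl]; exact ha)
  refine eq_one_of_le_ker (commutator_le.2 fun x hx y hy => ⟨⟨_, commutator_mem_commutator hx hy⟩, ?_, rfl⟩)
  have h5 := congrArg Subtype.val (DFunLike.congr_fun (MonoidHom.mem_ker.1 h4) ⟨_, ⟨y, hy⟩, rfl⟩)
  exact DFunLike.congr_fun (eq_one_of_cjw_eq (g := ⟨a, k1 (comm_self_le B ha)⟩) (μ := commChar hZ μ ⟨y, hy⟩) k3 h5)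
    ⟨x, hx⟩

variable [CharP F p]

theorem hh_quad [IsAlgClosed F] (ρ : Representation F Γ W) (hρ : MonoidHom.ker ρ = ⊥) (hs : IsPSolvable p Γ)
    (hO : pCore p Γ = ⊥) (hp2 : p ≠ 2) {B : Subgroup Γ} (hB : IsPGroup p B) {a : Γ} (ha : a ∈ B) (ho : orderOf a = p)
    (hc : ∀ b ∈ B, b * a = a * b) (h2 : (ρ a - 1) ^ 2 = 0) : ∃ (Q : Subgroup Γ) (hZ : ⁅Q, Q⁆ ≤ 𝒞 Q)
      (μ : ↥⁅Q, Q⁆ →* Fˣ) (v : W), B ≤ 𝒩 Q ∧ (♯Q : F) ≠ 0 ∧ Q ≤ ⁅Q, zpowers a⁆ ∧ a ∈ 𝒞 ⁅Q, Q⁆ ∧ μ ≠ 1 ∧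
      (ρ a - 1) v ≠ 0 ∧ (ρ a - 1) v ∈ wt ρ _ μ ∧ ♯(commChar hZ μ).range ≤ 4 := by
  obtain ⟨q, hq, hqp, Q, h⟩ := exists_minAct_of_pSolv hs hO (A := zpowers a) hB (zpowers_le.2 ha)
    ((le_centralizer_iff.1 (zpowers_le.2 (mem_centralizer_iff.2 hc))).trans (cent_le_norm _))
    (by rw [Ne, zpowers_eq_bot, ← orderOf_eq_one_iff, ho]; exact hp.out.one_lt.ne')
  have := Fact.mk hq
  have h0 : (♯Q : F) ≠ 0 := natCast_card_ne_zero (coprime_primes_pgroup h.pgrp hqp)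
  have h1 : ⁅Q, Q⁆ ≤ 𝒞 Q := h.phi_eq ▸ h.phi_le_cent
  have h3 : a ∈ 𝒞 ⁅Q, Q⁆ := h.phi_eq ▸ h.le_cent_phi (mem_zpowers _)
  have h4 := hp.out.two_le
  obtain ⟨c, hc, μ, U, hμ, k1, k2, k3, -, -, -, k4, -⟩ := hh_rep (p := p) (n := 0) ρ (h.norm ha) h0 (by simpa using ho)
    (by simpa using h.comm.ge) h1 (by simpa using h3) (fun e => h.ne_bot (eq_bot_iff.2 (e.trans hρ.le))) h2
    (by simp; omega)
  obtain rfl : c = 0 := by omega
  simp only [pow_zero, pow_one, one_mul] at k3 k4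
  have k5 := fun g (hg : g ∈ Q) => k3 g (mem_sup_left hg)
  obtain ⟨v, hv, hv0⟩ := exists_moved h.comm.ge hμ k1 k2 k5
  exact ⟨Q, h1, μ, v, h.norm, h0, h.comm.ge, h3, hμ, hv0, k1 (sub_mem (k3 a (mem_sup_right (mem_zpowers a)) v hv) hv),
    (card_range_commChar_le h1 h0 k1 k2 k5).trans (Nat.pow_le_pow_left k4 2)⟩

omit [Finite Γ] [FiniteDimensional F W] in
theorem bcRep_sub (K : Type*) [Field K] [Algebra F K] (ρ : Representation F Γ W) (g : Γ) :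
    bcRep K ρ g - 1 = Module.End.baseChangeHom F K W (ρ g - 1) := by rw [map_sub, map_one]; rfl

theorem hh_cyc (ρ : Representation F Γ W) (hρ : MonoidHom.ker ρ = ⊥) (hs : IsPSolvable p Γ)
    (hO : pCore p Γ = ⊥) (hp2 : p ≠ 2) {a : Γ} (ho : orderOf a = p)
    (h : ∀ g, g * a = a * g → (ρ g - 1) * (ρ a - 1) = 0) : False := by
  have h' : ∀ g, g * a = a * g → (bcRep (AlgebraicClosure F) ρ g - 1) * (bcRep (AlgebraicClosure F) ρ a - 1) = 0 :=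
    fun g hg => by rw [bcRep_sub, bcRep_sub, ← map_mul, h g hg, map_zero]
  obtain ⟨Q, -, μ, v, -, -, -, h1, h2, h3, h4, -⟩ := hh_quad (bcRep (AlgebraicClosure F) ρ) ((ker_bcRep _ ρ).trans hρ) hs hO
    hp2 (B := zpowers a) (IsPGroup.of_card (n := 1) (by rw [Nat.card_zpowers, ho, pow_one])) (mem_zpowers a) ho
    (fun b ⟨k, hk⟩ => hk ▸ ((Commute.refl a).zpow_left k).eq) (by rw [sq, h' a rfl])
  exact h2 (eq_of_mem_wt h3 h4 (wt_one (bcRep (AlgebraicClosure F) ρ) _ ▸ fun g hg =>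
    sub_eq_zero.1 (LinearMap.congr_fun (h' g (mem_centralizer_iff.1 h1 g hg)) v)))

theorem hh_der (ρ : Representation F Γ W) (hρ : MonoidHom.ker ρ = ⊥) (hs : IsPSolvable p Γ)
    (hO : pCore p Γ = ⊥) (hp2 : p ≠ 2) {B : Subgroup Γ} (hB : IsPGroup p B)
    (h1 : ∀ a ∈ ⁅B, B⁆, (ρ a - 1) ^ 2 = 0) (h2 : ∀ a ∈ ⁅B, B⁆, ∀ b ∈ B, (ρ a - 1) * (ρ b - 1) ^ 2 = 0) : ⁅B, B⁆ = ⊥ := by
  by_contra h
  obtain ⟨a, ha, ho, hc⟩ := exists_mem_inf_Zc hB (comm_self_le B) (le_norm_der B) h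
  obtain ⟨Q, hZ, μ, v, k1, k2, k3, -, k4, k5, k6, k7⟩ := hh_quad (bcRep (AlgebraicClosure F) ρ)
    ((ker_bcRep _ ρ).trans hρ) hs hO hp2 hB (comm_self_le B ha) ho hc
    (by rw [bcRep_sub, ← map_pow, h1 a ha, map_zero])
  have hN := H1.le_normalizer_commutator k1 k1
  have h3 : ∀ b (hb : b ∈ B), cjw ⟨b, hN hb⟩ μ = μ := fun b hb => by
    by_contra h4
    have h5 := pr_pow_sub (natCast_ne_zero_of_dvd (card_dvd_of_le (comm_self_le Q)) k2) (x := ⟨b, hN hb⟩) (k := 3)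
      (fun l hl hl' e => by
        obtain ⟨n, hn⟩ := hB ⟨b, hb⟩
        have := pow_gcd_mem (S := stabW μ) (m := p ^ n) e
          ((show (⟨b, hN hb⟩ ^ p ^ n : normalizer _) = 1 from Subtype.ext (congrArg Subtype.val hn :)) ▸ one_mem _)
        rw [((Nat.coprime_of_lt_prime hl.ne' (by have := hp.out.two_le; omega) hp.out).symm.pow_right n).gcd_eq_one,
          pow_one] at this
        exact h4 this) k6 2 0 (by decide)
    have h6 : (ρ b - 1) ^ 2 * (ρ a - 1) = 0 := by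
      have e : Commute (ρ b) (ρ a) := by rw [Commute, SemiconjBy, ← map_mul, ← map_mul, hc b hb]
      rw [← h2 a ha b hb]
      exact (((e.sub_right (Commute.one_right _)).sub_left (Commute.one_left _)).pow_left 2).eq
    rw [← Module.End.mul_apply (_ ^ 2), bcRep_sub, bcRep_sub, ← map_pow, ← map_mul, h6] at h5
    refine k5 ?_
    rw [bcRep_sub]
    simpa using h5.symm
  exact k4 (eq_one_of_small hZ k1 h3 k7 hp2 hB ha k3)

end Cfsg.Agent.H2
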