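import Cfsg.Agent.H2.HHB2
import Cfsg.Agent.H8.PLen
import Cfsg.Agent.H9.Stab

/-! Theorem B of Hall and Higman: bounds for the `p`-length. -/

namespace Cfsg.Agent.H2

open Subgroup Module Cfsg.Agent.BG QuotientGroup Function
open scoped commutatorElement

universe u
variable {G : Type u} [Group G] [Finite G] {p : ℕ} [hp : Fact p.Prime]

/-- `p`-soluble with an elementary abelian self-centralizing `O_p` -/
structure HGood (p : ℕ) (H : Type*) [Group H] : Prop where
  sol : IsPSolvable p H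
  elem : IsElementaryAbelian p (pCore p H)
  cent : 𝒞 (pCore p H) ≤ pCore p H

omit [Finite G] hp in
theorem comap_pCore_of_ker {H : Type*} [Group H] {f : G →* H} (hf : Surjective f) (h : IsPGroup p f.ker) :
    (pCore p H).comap f = pCore p G :=
  le_antisymm (H1.le_pCore inferInstance ((H1.isPGroup_pCore p H).comap_of_ker_isPGroup f h))
    (map_le_iff_le_comap.1 (H1.map_pCore_le hf))

omit [Finite G] hp in
theorem pCore_quot_pCore : pCore p (G ⧸ pCore p G) = ⊥ := H1.pCore_quotient_eq_bot _ rfl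

theorem exists_hgood (hG : IsPSolvable p G) : ∃ (H : Type u) (_ : Group H) (_ : Finite H) (f : G →* H),
    Surjective f ∧ HGood p H ∧ (pCore p H).comap f = pPrimePCore p G := by
  let G₁ := G ⧸ pPrimeCore p G
  have h1 : IsPSolvable p G₁ := H9.pSolv_map _ (mk'_surjective _) hG
  have h2 : pPrimeCore p G₁ = ⊥ := H1.pPrimeCore_quotient_eq_bot _ rfl
  let Φ := (frattini (pCore p G₁)).map (pCore p G₁).subtype
  have : Φ.Normal := H1.normal_map_subtype_of_char _ _
  have h3 := comap_pCore_of_ker (p := p) (mk'_surjective Φ) (by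
    rw [ker_mk']; exact (H1.isPGroup_pCore p G₁).to_le (map_subtype_le _))
  have h4 : ∀ v ∈ pCore p (G₁ ⧸ Φ), ∃ x : pCore p G₁, mk' Φ x = v := fun v hv => by
    obtain ⟨x, rfl⟩ := mk'_surjective Φ v
    exact ⟨⟨x, h3.le hv⟩, rfl⟩
  refine ⟨G₁ ⧸ Φ, inferInstance, inferInstance, (mk' Φ).comp (mk' _), (mk'_surjective _).comp (mk'_surjective _),
    ⟨H9.pSolv_map _ (mk'_surjective _) h1, ⟨⟨⟨fun a b => Subtype.ext ?_⟩⟩, fun v hv => ?_⟩, fun g hg => ?_⟩,
    by rw [← comap_comap, h3]; rfl⟩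
  · obtain ⟨x, hx⟩ := h4 a a.2
    obtain ⟨y, hy⟩ := h4 b b.2
    rw [coe_mul, coe_mul, ← hx, ← hy, ← commutatorElement_eq_one_iff_mul_comm, ← map_commutatorElement]
    exact (eq_one_iff _).2 ⟨⁅x, y⁆, H1.commutator_le_frattini (H1.isPGroup_pCore p G₁)
      (commutator_mem_commutator trivial trivial), rfl⟩
  · obtain ⟨x, rfl⟩ := h4 v hv
    rw [← map_pow]
    exact (eq_one_iff _).2 ⟨x ^ p, H1.pow_mem_frattini (H1.isPGroup_pCore p G₁) x, rfl⟩
  · obtain ⟨g, rfl⟩ := mk'_surjective Φ g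
    refine h3.ge (Reg.mem_pCore_of_frattini h1 h2 fun x hx => (eq_one_iff (N := Φ) _).1 ?_)
    rw [← mk'_apply, map_commutatorElement, commutatorElement_eq_one_iff_mul_comm]
    exact (mem_centralizer_iff.1 hg _ (h3.ge hx)).symm

theorem plen_succ_of (hG : IsPSolvable p G) {l : ℕ} (h : ∀ (H : Type u) [Group H] [Finite H] (f : G →* H),
    Surjective f → HGood p H → PLengthLE p l (H ⧸ pCore p H)) : PLengthLE p (l + 1) G := by
  obtain ⟨H, _, _, f, h1, h2, h3⟩ := exists_hgood hG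
  refine Reg.plen_step (Reg.plen_inj (QuotientGroup.map _ _ f h3.ge) ((injective_iff_map_eq_one _).2 fun g hg => ?_)
    (h H f h1 h2))
  obtain ⟨g, rfl⟩ := mk_surjective g
  exact (eq_one_iff _).2 (h3.le ((eq_one_iff (f g)).1 hg))

/-- the conjugation module -/
structure HMod (p : ℕ) {H : Type*} [Group H] (V : Subgroup H) [V.Normal] {W : Type*} [AddCommGroup W]
    [Module (ZMod p) W] (ρ : Representation (ZMod p) (H ⧸ V) W) (e : W → H) : Prop where
  ker : MonoidHom.ker ρ = ⊥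
  inj : Injective e
  mem : ∀ w, e w ∈ V
  surj : ∀ v ∈ V, ∃ w, e w = v
  add : ∀ a b, e (a + b) = e a * e b
  conj : ∀ (g : H) w, e (ρ g w) = g * e w * g⁻¹

omit [Finite G] in
theorem exists_hmod {V : Subgroup G} [V.Normal] [IsMulCommutative V] (hc : 𝒞 V ≤ V) {W : Type*} [AddCommGroup W]
    [Module (ZMod p) W] (φ : G →* AddMonoid.End W) {e : W → G} (h1 : Injective e) (h2 : ∀ w, e w ∈ V)
    (h3 : ∀ v ∈ V, ∃ w, e w = v) (h4 : ∀ a b, e (a + b) = e a * e b) (h5 : ∀ g w, e (φ g w) = g * e w * g⁻¹) :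
    ∃ ρ : Representation (ZMod p) (G ⧸ V) W, HMod p V ρ e := by
  refine ⟨QuotientGroup.lift _ (zmodRep p φ) fun g hg => LinearMap.ext fun v => h1 ((h5 g v).trans ?_),
    eq_bot_iff.2 fun g hg => ?_, h1, h2, h3, h4, h5⟩
  · exact mul_inv_eq_iff_eq_mul.2 (mem_centralizer_iff.1 (le_centralizer V (h2 v)) g hg)
  · obtain ⟨g, rfl⟩ := mk_surjective g
    refine (eq_one_iff _).2 (hc (mem_centralizer_iff.2 fun v hv => ?_))
    obtain ⟨w, rfl⟩ := h3 v hv
    exact (mul_inv_eq_iff_eq_mul.1 ((h5 g w).symm.trans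
      (congrArg e (LinearMap.congr_fun (MonoidHom.mem_ker.1 hg) w)))).symm

open scoped IsMulCommutative in
theorem HGood.exists_mod (h : HGood p G) : ∃ (W : Type u) (_ : AddCommGroup W) (_ : Module (ZMod p) W)
    (_ : FiniteDimensional (ZMod p) W) (ρ : Representation (ZMod p) (G ⧸ pCore p G) W) (e : W → G),
    HMod p (pCore p G) ρ e := by
  haveI := h.elem.1
  letI : Module (ZMod p) (Additive (pCore p G)) := AddCommGroup.zmodModule (fun x => by
    apply Additive.toMul.injective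
    apply Subtype.ext
    exact h.elem.2 _ x.toMul.2)
  obtain ⟨ρ, h⟩ := exists_hmod (p := p) (W := Additive (pCore p G)) h.cent ((H1.conjEnd (pCore p G)).comp
    ((MonoidHom.id G).codRestrict _ fun g => le_normalizer_of_normal (mem_top g))) (e := fun v => v.toMul)
    (fun a b e => Additive.toMul.injective (Subtype.ext e)) (fun v => v.toMul.2)
    (fun v hv => ⟨Additive.ofMul ⟨v, hv⟩, rfl⟩) (fun _ _ => rfl) fun _ _ => rfl
  exact ⟨_, _, _, Module.Finite.of_finite, ρ, _, h⟩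

section
variable {V : Subgroup G} [V.Normal] {W : Type*} [AddCommGroup W] [Module (ZMod p) W]
  {ρ : Representation (ZMod p) (G ⧸ V) W} {e : W → G}
omit [Finite G]

theorem HMod.zero (h : HMod p V ρ e) : e 0 = 1 := by simpa using (h.add 0 0).symm

theorem HMod.comm (h : HMod p V ρ e) (g : G) (w : W) : e ((ρ g - 1) w) = ⁅g, e w⁆ := by
  have := h.add ((ρ g - 1) w) w
  rw [LinearMap.sub_apply, Module.End.one_apply, sub_add_cancel, h.conj] at this
  exact (eq_mul_inv_iff_mul_eq.2 this.symm)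

theorem HMod.eq_zero (h : HMod p V ρ e) {w : W} (hw : e w = 1) : w = 0 := h.inj (hw.trans h.zero.symm)

theorem HMod.norm (h : HMod p V ρ e) (x : G) (w : W) (n : ℕ) :
    e ((∑ i ∈ Finset.range n, ρ x ^ i) w) * x ^ n = (e w * x) ^ n := by
  induction n with
  | zero => simp [h.zero]
  | succ n ih =>
    rw [geom_sum_succ, LinearMap.add_apply, add_comm, h.add, Module.End.mul_apply, h.conj, pow_succ' (e w * x), ← ih,
      pow_succ' x, Module.End.one_apply]
    group

theorem geom_sum_char {F W : Type*} [Field F] [CharP F p] [AddCommGroup W] [Module F W] (T : Module.End F W) (a : ℕ) :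
    ∑ i ∈ Finset.range (p ^ a), T ^ i = (T - 1) ^ (p ^ a - 1) := by
  have h1 : ∑ i ∈ Finset.range (p ^ a), (Polynomial.X : Polynomial F) ^ i = (Polynomial.X - 1) ^ (p ^ a - 1) := by
    refine mul_right_cancel₀ (Polynomial.X_sub_C_ne_zero (1 : F)) ?_
    rw [Polynomial.C_1, geom_sum_mul, ← pow_succ, Nat.sub_add_cancel (pow_pos hp.out.pos a), sub_pow_char_pow, one_pow]
  simpa using congrArg (Polynomial.aeval T) h1

theorem HMod.norm' (h : HMod p V ρ e) (x : G) (w : W) (a : ℕ) :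
    e (((ρ x - 1) ^ (p ^ a - 1) : Module.End (ZMod p) W) w) * x ^ p ^ a = (e w * x) ^ p ^ a := by
  rw [← geom_sum_char, h.norm]

end

/-- the exceptional case of Theorem B does not occur for exponents up to `p ^ e` -/
def NoExc (p e : ℕ) (G : Type*) [Group G] : Prop := ∀ n₀ q m : ℕ, 1 ≤ n₀ → n₀ ≤ e → q.Prime → 1 ≤ m →
  p ^ n₀ - 1 = q ^ m → ∀ Q : Subgroup G, IsPGroup q Q → ⁅Q, Q⁆ = ⊥

omit hp in
theorem NoExc.map {H : Type*} [Group H] {e e' : ℕ} (h : NoExc p e G) (he : e' ≤ e) {f : G →* H} (hf : Surjective f) :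
    NoExc p e' H := fun n₀ q m h1 h2 h3 h4 h5 Q hQ => by
  have := Fact.mk h3
  obtain ⟨S, h6, rfl⟩ := H9.exists_lift_pgroup f hf hQ
  rw [← map_commutator, h n₀ q m h1 (h2.trans he) h3 h4 h5 S h6, Subgroup.map_bot]

/-- the Sylow `p`-subgroups have exponent dividing `p ^ e` -/
def SylExp (p e : ℕ) (G : Type*) [Group G] : Prop := ∀ P : Sylow p G, ∀ x ∈ (P : Subgroup G), x ^ p ^ e = 1

theorem SylExp.map {H : Type*} [Group H] {e : ℕ} (h : SylExp p e G) {f : G →* H} (hf : Surjective f) :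
    SylExp p e H := fun P x hx => by
  obtain ⟨P, rfl⟩ := Sylow.mapSurjective_surjective hf p P
  obtain ⟨x, hx, rfl⟩ := hx
  rw [← map_pow, h P x hx, map_one]

theorem plen_of_sylExp_zero (h : SylExp p 0 G) : PLengthLE p 0 G := by
  refine Reg.plen_zero.2 ((Nat.Prime.coprime_iff_not_dvd hp.out).2 fun hd => ?_).symm
  obtain ⟨P⟩ := (inferInstance : Nonempty (Sylow p G))
  exact P.ne_bot_of_dvd_card hd (eq_bot_iff.2 fun x hx => by simpa using h P x hx)

theorem HGood.sylExp (hG : HGood p G) {e : ℕ} (h1 : NoExc p (e + 1) G) (h2 : SylExp p (e + 1) G) :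
    SylExp p e (G ⧸ pCore p G) := fun P x hx => by
  obtain ⟨P, rfl⟩ := Sylow.mapSurjective_surjective (mk'_surjective (pCore p G)) p P
  obtain ⟨x, hx, rfl⟩ := hx
  by_contra h3
  obtain ⟨W, _, _, _, ρ, f, h⟩ := hG.exists_mod
  obtain ⟨n₀, q, m, a1, a2, a3, a4, a5, ⟨Q, a6, a7⟩, -⟩ := hhB ρ h.ker (H9.pSolv_map _ (mk'_surjective _) hG.sol)
    pCore_quot_pCore (orderOf_eq_prime_pow h3 (by rw [← map_pow, h2 P x hx, map_one])) (r := p ^ (e + 1) - 1)
    (LinearMap.ext fun w => h.eq_zero (by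
      have := h.norm' x w (e + 1)
      rwa [h2 P x hx, h2 P _ (mul_mem (H1.pCore_le_sylow P (h.mem w)) hx), mul_one] at this))
    (Nat.sub_lt (pow_pos hp.out.pos _) one_pos)
  exact a7 (h1.map le_rfl (mk'_surjective _) n₀ q m a1 a2 a3 a4 a5 Q a6)

theorem plen_of_sylExp (e : ℕ) : ∀ (G : Type u) [Group G] [Finite G], IsPSolvable p G → NoExc p e G → SylExp p e G →
    PLengthLE p e G := by
  induction e with
  | zero => exact fun G _ _ _ _ h => plen_of_sylExp_zero h
  | succ e ih =>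
    exact fun G _ _ h1 h2 h3 => plen_succ_of h1 fun H _ _ f hf h => ih _ (H9.pSolv_map _ (mk'_surjective _) h.sol)
      ((h2.map le_rfl hf).map e.le_succ (mk'_surjective _)) (h.sylExp (h2.map le_rfl hf) (h3.map hf))

omit hp in
theorem comm_eq_bot_of_sylow {q : ℕ} [Fact q.Prime] (h : ∀ S : Sylow q G, IsMulCommutative (S : Subgroup G))
    {Q : Subgroup G} (hQ : IsPGroup q Q) : ⁅Q, Q⁆ = ⊥ := by
  obtain ⟨T, hT⟩ := hQ.exists_le_sylow
  have := h T
  exact eq_bot_iff.2 ((Subgroup.commutator_mono hT hT).trans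
    (commutator_eq_bot_iff_le_centralizer.2 (le_centralizer _)).le)

end Cfsg.Agent.H2
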