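import Cfsg.Agent.H2.HHB3
import Cfsg.Agent.H2.F2

/-! Theorem A of Hall and Higman: derived length; cyclic normal subgroups of Sylow subgroups. -/

namespace Cfsg.Agent.H2

open Subgroup Module Cfsg.Agent.BG QuotientGroup Function
open scoped commutatorElement

universe u
variable {G : Type u} [Group G] {p : ℕ}

/-- the derived series of a subgroup -/
def dr (X : Subgroup G) (n : ℕ) : Subgroup G := (derivedSeries X n).map X.subtype

theorem dr_zero (X : Subgroup G) : dr X 0 = X := by rw [dr, derivedSeries_zero, ← MonoidHom.range_eq_map, range_subtype]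

theorem dr_succ (X : Subgroup G) (n : ℕ) : dr X (n + 1) = ⁅dr X n, dr X n⁆ := by rw [dr, derivedSeries_succ, map_commutator, dr]

theorem dr_map {H : Type*} [Group H] (f : G →* H) (X : Subgroup G) (n : ℕ) : dr (X.map f) n = (dr X n).map f := by
  induction n with
  | zero => rw [dr_zero, dr_zero]
  | succ n ih => rw [dr_succ, dr_succ, ih, map_commutator]

theorem dr_eq_bot {X : Subgroup G} {n : ℕ} : dr X n = ⊥ ↔ derivedSeries X n = ⊥ :=
  map_eq_bot_iff_of_injective _ X.subtype_injective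

theorem dr_le (X : Subgroup G) (n : ℕ) : dr X n ≤ X := map_subtype_le _

theorem comm_mem_dr {X : Subgroup G} {n : ℕ} {a x : G} (ha : a ∈ dr X n) (hx : x ∈ X) : ⁅a, x⁆ ∈ dr X n := by
  obtain ⟨a, ha, rfl⟩ := ha
  exact ⟨⁅a, ⟨x, hx⟩⁆, commutator_le_left _ ⊤ (commutator_mem_commutator ha trivial), rfl⟩

variable [Finite G] [hp : Fact p.Prime]

theorem HGood.dr_le (hG : HGood p G) (hp2 : p ≠ 2) (P : Sylow p G) {d : ℕ} (h : dr (P : Subgroup G) (d + 1) = ⊥) :
    dr (P : Subgroup G) d ≤ pCore p G := by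
  have hV := H1.pCore_le_sylow P
  rw [dr_succ, commutator_eq_bot_iff_le_centralizer] at h
  cases d with
  | zero =>
    rw [dr_zero] at h ⊢
    exact h.trans ((centralizer_le (SetLike.coe_subset_coe.2 hV)).trans hG.cent)
  | succ k =>
    obtain ⟨W, _, _, _, ρ, e, he⟩ := hG.exists_mod
    have h1 : ∀ a ∈ dr (P : Subgroup G) (k + 1), ∀ b ∈ dr (P : Subgroup G) (k + 1), ⁅a, b⁆ = 1 := fun a ha b hb =>
      commutatorElement_eq_one_iff_mul_comm.2 (mem_centralizer_iff.1 (h hb) a ha)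
    have := hh_der ρ he.ker (H9.pSolv_map _ (mk'_surjective _) hG.sol) pCore_quot_pCore hp2
      (B := (dr (P : Subgroup G) k).map (mk' _)) ((P.2.to_le (H2.dr_le _ k)).map _) (fun a ha => ?_) fun a ha b hb => ?_
    · rwa [← map_commutator, ← dr_succ, Subgroup.map_eq_bot_iff, ker_mk'] at this
    · rw [← map_commutator, ← dr_succ] at ha
      obtain ⟨a, ha, rfl⟩ := ha
      refine LinearMap.ext fun w => he.eq_zero ?_
      rw [sq, Module.End.mul_apply, mk'_apply, he.comm, he.comm]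
      exact h1 a ha _ (comm_mem_dr ha (hV (he.mem w)))
    · rw [← map_commutator, ← dr_succ] at ha
      obtain ⟨a, ha, rfl⟩ := ha
      obtain ⟨b, hb, rfl⟩ := hb
      refine LinearMap.ext fun w => he.eq_zero ?_
      rw [sq, Module.End.mul_apply, Module.End.mul_apply, mk'_apply, mk'_apply, he.comm, he.comm, he.comm]
      exact h1 a ha _ ((dr_succ _ k).ge (commutator_mem_commutator hb (comm_mem_dr hb (hV (he.mem w)))))

theorem sylDer_map {H : Type*} [Group H] {d : ℕ} (h : ∀ P : Sylow p G, dr (P : Subgroup G) d = ⊥) {f : G →* H}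
    (hf : Surjective f) (P : Sylow p H) : dr (P : Subgroup H) d = ⊥ := by
  obtain ⟨P, rfl⟩ := Sylow.mapSurjective_surjective hf p P
  rw [Sylow.coe_mapSurjective, dr_map, h, Subgroup.map_bot]

theorem plen_of_der (hp2 : p ≠ 2) (d : ℕ) : ∀ (G : Type u) [Group G] [Finite G], IsPSolvable p G →
    (∀ P : Sylow p G, dr (P : Subgroup G) d = ⊥) → PLengthLE p d G := by
  induction d with
  | zero => exact fun G _ _ _ h => plen_of_sylExp_zero fun P x hx => by simpa using ((dr_zero _).symm.trans (h P)).le hx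
  | succ d ih =>
    refine fun G _ _ h1 h2 => plen_succ_of h1 fun H _ _ f hf h => ih _ (H9.pSolv_map _ (mk'_surjective _) h.sol) fun P => ?_
    obtain ⟨P, rfl⟩ := Sylow.mapSurjective_surjective (mk'_surjective (pCore p H)) p P
    rw [Sylow.coe_mapSurjective, dr_map, Subgroup.map_eq_bot_iff, ker_mk']
    exact h.dr_le hp2 P (sylDer_map h2 hf P)

theorem HGood.f2 (hG : HGood 2 G) (h : ¬ Sec (Equiv.Perm (Fin 4)) G) : Dh.F2 (pCore 2 G) ⊤ := by
  refine Dh.f2_of_red ⟨le_top, le_normalizer_of_normal, hG.elem, H8.redFor_of_normal le_normalizer_of_normal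
    fun N _ h1 h2 => ?_⟩ (H9.pSolv_sub _ hG.sol) (Dh.ns_of_s4 (H8.Fs_eq_Op_iff.2 ?_) fun e => h (e.trans (.sub _)))
  · have := hG.elem.1
    exact (H1.le_pCore (normalizer_eq_top_iff.1 (eq_top_iff.2 h1))
      (H8.isPGroup_of_resOf_le (h2.trans hG.cent) (H1.isPGroup_pCore 2 G))).trans (le_centralizer _)
  · rw [H8.Op_top]
    exact inf_le_right.trans hG.cent

theorem HGood.cyclic_le (hG : HGood p G) (h : p ≠ 2 ∨ ¬ Sec (Equiv.Perm (Fin 4)) G) {g : G} (hg : IsPGroup p (zpowers g))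
    (hn : pCore p G ≤ 𝒩 (zpowers g)) : g ∈ pCore p G := by
  by_contra h0
  obtain ⟨k, h1, h2⟩ := L.exists_pow_not_mem hg (A := (pCore p G).subgroupOf _) (x := ⟨g, mem_zpowers g⟩) h0
  change g ^ p ^ k ∉ pCore p G at h1
  change (g ^ p ^ k) ^ p ∈ pCore p G at h2
  have h3 : zpowers g ⊓ pCore p G ≤ zpowers ((g ^ p ^ k) ^ p) := by
    rintro _ ⟨h3, h4⟩
    obtain ⟨l, rfl⟩ := mem_powers_iff_mem_zpowers.2 h3
    obtain ⟨c, rfl⟩ : p ^ (k + 1) ∣ l := by
      by_contra h5
      obtain ⟨b, hb, h6⟩ := exists_pow_mem hp.out h4 (by rwa [pow_succ, pow_mul]) h5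
      obtain ⟨c, rfl⟩ := Nat.exists_eq_add_of_le (Nat.le_of_lt_succ hb)
      exact h1 (by rw [pow_add, pow_mul]; exact pow_mem h6 _)
    show g ^ _ ∈ _
    rw [pow_succ, pow_mul, pow_mul]
    exact pow_mem (mem_zpowers _) _
  have h4 : g ^ p ^ k ∈ zpowers g := pow_mem (mem_zpowers g) _
  have h5 : ⁅zpowers (g ^ p ^ k), pCore p G⁆ ≤ zpowers ((g ^ p ^ k) ^ p) := (le_inf
    ((Subgroup.commutator_mono (zpowers_le.2 h4) le_rfl).trans (H8.commutator_le_left_of_norm hn))
    (commutator_le_right _ _)).trans h3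
  have h6 := hg.to_le (zpowers_le.2 h4)
  generalize g ^ p ^ k = a at h1 h2 h5 h6
  by_cases hp2 : p = 2
  · subst hp2
    have h7 := hG.f2 (h.resolve_left fun e => e rfl) (zpowers a) le_top fun y ⟨i, hi⟩ => by
      have := hG.elem.1
      rw [← hi, ← zpow_natCast, ← zpow_mul, mul_comm, zpow_mul, zpow_natCast]
      exact le_centralizer _ (zpow_mem h2 i)
    rw [← H1.relIndex_centralizer_symm h6 (H1.isPGroup_pCore 2 G) ((card_le_of_le h5).trans (by
      rw [Nat.card_zpowers]; exact Nat.le_of_dvd two_pos (orderOf_dvd_of_pow_eq_one (hG.elem.2 _ h2))))] at h7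
    exact h1 (hG.cent (Dh.le_of_ri (by nlinarith [Nat.pos_of_ne_zero (Dh.ri_ne (𝒞 (pCore 2 G)) (zpowers a))])
      (mem_zpowers a)))
  obtain ⟨W, _, _, _, ρ, e, he⟩ := hG.exists_mod
  have h7 : ∀ w x, x * a ^ p = a ^ p * x → e ((ρ x - 1) ((ρ a - 1) w)) = 1 := fun w x hx => by
    obtain ⟨i, hi⟩ := h5 (commutator_mem_commutator (mem_zpowers a) (he.mem w))
    rw [he.comm, he.comm, ← hi, commutatorElement_eq_one_iff_commute]
    exact Commute.zpow_right hx i
  refine hh_cyc ρ he.ker (H9.pSolv_map _ (mk'_surjective _) hG.sol) pCore_quot_pCore hp2 (a := a)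
    (orderOf_eq_prime ((eq_one_iff _).2 h2) fun e => h1 ((eq_one_iff _).1 e)) fun x hx =>
      LinearMap.ext fun w => he.eq_zero ?_
  obtain ⟨x, rfl⟩ := mk_surjective x
  refine h7 w x ?_
  obtain ⟨v, hv⟩ := he.surj ⁅x, a⁆ ((eq_one_iff _).1 (by
    rw [← mk'_apply, map_commutatorElement]; exact commutatorElement_eq_one_iff_mul_comm.2 hx))
  have h8 := he.norm' a v 1
  obtain ⟨c, hc⟩ : ∃ c, p ^ 1 - 1 = c + 1 + 1 := ⟨p - 3, by have := hp.out.two_le; rw [pow_one]; omega⟩
  rw [hc, pow_succ', pow_succ', Module.End.mul_apply, Module.End.mul_apply, h7 _ a (pow_mul_comm' a p).symm, one_mul, hv,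
    pow_one, commutatorElement_def, inv_mul_cancel_right, conj_pow] at h8
  exact mul_inv_eq_iff_eq_mul.1 h8.symm

end Cfsg.Agent.H2
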