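import Cfsg.Agent.H2.ZS
import Cfsg.Agent.H2.Invol2
import Cfsg.Agent.H8.Cop

/-! Isolated involutions: the set of inverted elements of odd order. -/

namespace Cfsg.Agent.H2

open Subgroup
open scoped commutatorElement

variable {G : Type*} [Group G]

theorem eq_of_sq_odd {a b : G} (ha : Odd (orderOf a)) (hb : Odd (orderOf b))
    (h : a * a = b * b) : a = b := by
  obtain ⟨k, hk⟩ := ha.mul hb
  have h1 : ∀ c : G, orderOf c ∣ 2 * k + 1 → c = (c * c) ^ (k + 1) := fun c hc => by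
    rw [← pow_two, ← pow_mul, show 2 * (k + 1) = 2 * k + 1 + 1 by ring, pow_succ,
      orderOf_dvd_iff_pow_eq_one.1 hc, one_mul]
  rw [h1 a (hk ▸ dvd_mul_right _ _), h1 b (hk ▸ dvd_mul_left _ _), h]

theorem exists_sqrt_odd {u : G} (hu : Odd (orderOf u)) : ∃ k : ℕ, u ^ k * u ^ k = u := by
  obtain ⟨k, hk⟩ := hu
  exact ⟨k + 1, by rw [← pow_add, show k + 1 + (k + 1) = 2 * k + 1 + 1 by ring, ← hk, pow_succ,
    pow_orderOf_eq_one, one_mul]⟩

/-- `k` has odd order and is inverted by `z`. -/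
def Kz (z k : G) : Prop := Odd (orderOf k) ∧ z * k * z⁻¹ = k⁻¹

theorem Kz.pow {z k : G} (h : Kz z k) (n : ℕ) : Kz z (k ^ n) :=
  ⟨h.1.of_dvd_nat (orderOf_pow_dvd n), inv_conj_pow h.2 n⟩

theorem Kz.inv {z k : G} (h : Kz z k) : Kz z k⁻¹ :=
  ⟨by rw [orderOf_inv]; exact h.1, by rw [← conj_inv, h.2]⟩

theorem Kz.conj {z k s : G} (h : Kz z k) (hs : Commute s z) : Kz z (s * k * s⁻¹) :=
  ⟨by rw [orderOf_conj']; exact h.1, by
    calc z * (s * k * s⁻¹) * z⁻¹ = (z * s) * k * (z * s)⁻¹ := by group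
      _ = s * (z * k * z⁻¹) * s⁻¹ := by rw [← hs.eq]; group
      _ = _ := by rw [h.2]; group⟩

theorem Kz.conj_eq {z k : G} (h : Kz z k) : k * z * k⁻¹ = k * k * z := by
  have := h.inv.2
  rw [inv_inv] at this
  calc k * z * k⁻¹ = k * (z * k⁻¹ * z⁻¹) * z := by group
    _ = _ := by rw [this]

theorem Kz.exists_conj {z k : G} (h : Kz z k) : ∃ g : G, k * z = g * z * g⁻¹ := by
  obtain ⟨j, hj⟩ := exists_sqrt_odd h.1
  exact ⟨k ^ j, by rw [(h.pow j).conj_eq, hj]⟩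

variable [Finite G] {z : G} (hz : IsIsolatedInvolution z)
include hz

theorem kz_of_conj {k g : G} (h : k * z = g * z * g⁻¹) : Kz z k := by
  have h2 := ord2_mul_self hz.1
  have e : k = g * z * g⁻¹ * z := by rw [← h, mul_assoc, h2, mul_one]
  refine ⟨?_, ?_⟩
  · simpa only [e, one_mul, inv_one, mul_one] using isolated_odd' hz g 1
  · rw [e]; exact inverts_right (ord2_mul_self (ord2_conj hz.1 g)) h2

theorem Kz.odd_mul {a b : G} (ha : Kz z a) (hb : Kz z b) : Odd (orderOf (a * b)) := by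
  obtain ⟨g, e⟩ := ha.exists_conj
  obtain ⟨h, e'⟩ := hb.inv.exists_conj
  have := isolated_odd' hz g h
  rw [← e, ← e'] at this
  convert this using 2
  have h1 := hb.inv.2
  rw [inv_inv, ord2_inv hz.1] at h1
  conv_lhs => rw [← h1]
  group

theorem Kz.sandwich {a b : G} (ha : Kz z a) (hb : Kz z b) : Kz z (a * b * a) := by
  obtain ⟨g, e⟩ := hb.exists_conj
  refine kz_of_conj hz (g := a * g) ?_
  calc a * b * a * z = a * (b * z) * (z⁻¹ * a * z⁻¹⁻¹) := by group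
    _ = _ := by rw [e, ord2_inv hz.1, ha.2]; group

theorem existsUnique_Kz (g : G) : ∃! k : G, Kz z k ∧ g⁻¹ * k ∈ centralizer ({z} : Set G) := by
  have h2 := ord2_mul_self hz.1
  have h1 : ∀ k, Kz z k → (g⁻¹ * k ∈ centralizer ({z} : Set G) ↔ k * k = g * z * g⁻¹ * z) := by
    intro k hk
    rw [mem_centralizer_singleton_iff, ← mul_left_inj z (c := g * z * g⁻¹ * z), ← hk.conj_eq,
      mul_assoc _ z z, h2, mul_one]
    constructor
    · intro h
      calc k * z * k⁻¹ = g * (g⁻¹ * k * z) * k⁻¹ := by group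
        _ = _ := by rw [h]; group
    · intro h
      calc g⁻¹ * k * z = g⁻¹ * (k * z * k⁻¹) * k := by group
        _ = _ := by rw [h]; group
  have h3 : Kz z (g * z * g⁻¹ * z) := kz_of_conj hz (g := g) (by rw [mul_assoc, h2, mul_one])
  obtain ⟨j, hj⟩ := exists_sqrt_odd h3.1
  exact ⟨_, ⟨h3.pow j, (h1 _ (h3.pow j)).2 hj⟩, fun k hk =>
    eq_of_sq_odd hk.1.1 (h3.pow j).1 (by rw [hj, (h1 k hk.1).1 hk.2])⟩

theorem card_eq_mul_Kz :
    Nat.card G = Nat.card (centralizer ({z} : Set G)) * Nat.card {k : G // Kz z k} := by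
  rw [← Nat.card_prod]
  refine (Nat.card_eq_of_bijective (fun x => x.2.1 * x.1.1) ⟨?_, fun g => ?_⟩).symm
  · rintro ⟨c, k⟩ ⟨c', k'⟩ (e : k.1 * c.1 = k'.1 * c'.1)
    have : k.1 = k'.1 := (existsUnique_Kz hz (k.1 * c.1)).unique ⟨k.2, by simp⟩
      ⟨k'.2, by rw [e]; simp⟩
    rw [this, mul_right_inj] at e
    exact Prod.ext (Subtype.ext e) (Subtype.ext this)
  · obtain ⟨k, ⟨a, b⟩, -⟩ := existsUnique_Kz hz g
    exact ⟨⟨⟨_, inv_mem b⟩, ⟨k, a⟩⟩, by simp⟩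

theorem exists_inv_sylow_ge {p : ℕ} [Fact p.Prime] {U : Subgroup G} (hU : IsPGroup p U)
    (hn : z ∈ normalizer (U : Set G)) : ∃ P, SylIn p P ⊤ ∧ U ≤ P ∧ z ∈ normalizer (P : Set G) := by
  have h2 := isPGroup_zpowers_ord2 hz.1
  by_cases hp : p = 2
  · subst hp
    obtain ⟨P, a, b⟩ := exists_sylIn_ge (H8.isPGroup_sup (zpowers_le.2 hn) h2 hU) le_top
    exact ⟨P, a, le_sup_right.trans b, le_normalizer (b (mem_sup_left (mem_zpowers z)))⟩
  obtain ⟨P, a, b⟩ := exists_sylIn_ge hU le_top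
  haveI : (pPrimeCore 2 G).Normal := H8.Opp_top (G := G) 2 ▸
    H8.normal_of_top_le (H8.le_normalizer_Opp _ _)
  have h3 : z ∈ normalizer ((P ⊔ pPrimeCore 2 G : Subgroup G) : Set G) :=
    mem_normalizer_of_cj_le (cj_le_iff_forall.2 fun x hx => by
      simpa [commutatorElement_def] using mul_mem (mem_sup_right (B.zstar' hz x)) hx)
  obtain ⟨Q, c, d, e⟩ := H8.exists_inv_sylIn_ge h2 (zpowers_le.2 h3) (H8.coprime_sup
    (le_top.trans (H8.normal_iff_top_le.1 inferInstance)) (H8.coprime_of_isPGroup a.pgrp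
      ((Nat.coprime_primes Nat.prime_two Fact.out).2 (Ne.symm hp)))
      (H8.Opp_top (G := G) 2 ▸ H8.Opp_coprime 2 ⊤)) hU (b.trans le_sup_left) (zpowers_le.2 hn)
  exact ⟨Q, a.of_card_le c.pgrp le_top (c.card_le a.pgrp le_sup_left), e, zpowers_le.1 d⟩

theorem exists_cent_cj {P : Subgroup G} {g : G} (h1 : z ∈ normalizer (P : Set G))
    (h2 : z ∈ normalizer ((cj g P : Subgroup G) : Set G)) :
    ∃ c ∈ centralizer ({z} : Set G), cj c P = cj g P := by
  have h3 : g * z * g⁻¹ ∈ normalizer ((cj g P : Subgroup G) : Set G) := by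
    rw [← cj_normalizer]; exact conj_mem_cj g h1
  obtain ⟨k, hk⟩ := conj_of_odd (ord2_mul_self hz.1) (ord2_mul_self (ord2_conj hz.1 g))
    (isolated_odd hz g)
  have h4 := pow_mem (mul_mem h2 h3) k
  generalize (z * (g * z * g⁻¹)) ^ k = n at hk h4
  refine ⟨n⁻¹ * g, mem_centralizer_singleton_iff.2 ?_, by
    rw [cj_mul, cj_eq_of_mem_normalizer (inv_mem h4)]⟩
  calc n⁻¹ * g * z = n⁻¹ * (g * z * g⁻¹) * g := by group
    _ = _ := by rw [← hk]; group

omit hz in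
theorem SylIn.zstar_pow {P X : Subgroup G} (hP : SylIn 2 P X) {c : G} (hc : c ∈ P)
    (h : ∀ j : ℕ, ∀ g ∈ X, g * c ^ j * g⁻¹ ∈ P → g * c ^ j * g⁻¹ = c ^ j) {g : G} (hg : g ∈ X) :
    ⁅g, c⁆ ∈ H8.Opp 2 X := by
  have h1 := mk_mem_center_of_fixed (c := ⟨c, hP.le hc⟩) hP.subgroupOf_top hc fun j g hg =>
    Subtype.ext (h j g g.2 hg)
  have h2 := mem_center_iff.1 h1 (QuotientGroup.mk' _ ⟨g, hg⟩)
  rw [← commutatorElement_eq_one_iff_mul_comm, ← map_commutatorElement, QuotientGroup.mk'_apply,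
    QuotientGroup.eq_one_iff] at h2
  exact ⟨_, h2, rfl⟩

end Cfsg.Agent.H2
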