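import Cfsg.Agent.H2.KS9
import Cfsg.Agent.H9.Stab

/-! Thompson's normal `p`-complement theorem and the subgroup `W(S)`. -/

namespace Cfsg.Agent.H2.WS

open Subgroup Cfsg.Agent.H2 Cfsg.Agent.BG
open Cfsg.Agent.H9 (AE MA JJ II MinNil)
open scoped commutatorElement IsMulCommutative

universe u
variable {G : Type u} [Group G] [Finite G] {p : ℕ} [hp : Fact p.Prime] {V U W A B S T : Subgroup G} {a : G}

theorem minNil_cent (h : MinNil p S) (h1 : ⊤ ≤ 𝒞 (omegaOne p (Zc S))) : ⊤ ≤ 𝒞 (Zc S) := by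
  have hQ := L.pCore_isPGroup p G
  have hQS := h.syl.pCore_le
  have hc := h.char
  have hq := pNil_iff_card.1 h.quot
  rw [CharP'] at hc
  generalize_proofs hn at hq
  generalize pCore p G = Q at *
  let f := QuotientGroup.mk' Q
  have hf : Function.Surjective f := QuotientGroup.mk'_surjective _
  have e := map_comap_eq_self_of_surjective hf (resOf p ⊤)
  have hR : resOf p ⊤ ≤ (resOf p ⊤).comap f := map_le_iff_le_comap.1 ((map_resOf_le f ⊤).trans (resOf_mono le_top))
  have hK : ((resOf p ⊤).comap f).Normal := (H8.normal_of_top_le (le_normalizer_resOf p ⊤)).comap f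
  have hQK : Q ≤ (resOf p ⊤).comap f := (QuotientGroup.ker_mk' Q).ge.trans (ker_le_comap f _)
  generalize (resOf p ⊤).comap f = K at *
  rw [← e, ← relIndex_ker, QuotientGroup.ker_mk'] at hq
  obtain ⟨D, -, -, d2, d3⟩ := H1.exists_complement_of_coprime hQK le_normalizer_of_normal (by
    obtain ⟨k, hk⟩ := hQ.exists_card_eq
    exact hk ▸ hq.symm.pow_left k)
  rw [← d3] at hq
  have hW : (Zc Q).Normal := H8.normal_of_top_le (le_normalizer_of_normal.trans (normalizer_le_Zc Q))
  have := isMulCommutative_Zc Q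
  have u1 : ⁅Zc Q, K⁆ ≤ ⁅Zc Q, D⁆ := by
    rw [← d2]
    refine H1.commutator_sup_right_le le_rfl ((le_cent_iff_comm.1 inf_le_right).le.trans bot_le)
      (normalizer_commutator_ge_right _ _) (le_cent_comm.1 ((commutator_le_left _ _).trans inf_le_right)
        |>.trans (cent_le_norm _))
  have u2 := (commutator_le_left (Zc Q) K).trans inf_le_left
  have u3 : ⁅Zc Q, K⁆ = ⊥ := by
    by_contra hne
    have h2 := H1.inf_centralizer_ne_bot_of_isPGroup (hQ.to_le u2) h.syl.pgrp le_normalizer_of_normal hne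
    refine omegaOne_ne_bot (BL.dvd_card_of_pgroup (hQ.to_le (inf_le_left.trans u2)) h2 le_rfl) (eq_bot_mono
      (H1.commutator_inf_centralizer_eq_bot (V := Zc Q) (A := D) le_normalizer_of_normal
        (coprime_of_pgroup (hQ.to_le inf_le_left) hq).symm) (le_inf ((omegaOne_le _ _).trans
          (inf_le_left.trans u1)) ((omegaOne_mono (inf_le_inf_right _ (u2.trans hQS))).trans
            (le_cent_comm.1 (le_top.trans h1)))))
  have z : Zc S ≤ Zc Q := le_inf ((inf_le_right.trans (H8.centralizer_anti hQS)).trans hc)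
    (inf_le_right.trans (H8.centralizer_anti hQS))
  exact h.syl.resOf_sup.ge.trans (sup_le (hR.trans (le_cent_comm.1 (z.trans (le_cent_iff_comm.2 u3))))
    (le_cent_comm.1 inf_le_right))

theorem thompson (h2 : p ≠ 2) (hS : SylIn p S ⊤) (h3 : PNil p (𝒩 (JJ p S))) (h4 : PNil p (𝒞 (Zc S))) :
    PNil p (⊤ : Subgroup G) :=
  ((H9.pf_JJ (.inr rfl)).goodHyp' H9.pf_Zc True).pNil (fun X _ _ _ S D h hy hm => by
    obtain rfl := h.eq trivial
    have h0 := H9.pPrimeCore_eq_bot_of_charP hm.char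
    have tf := H9.tf_iff.1 (FM.tf_of_abSyl hm.pSolv h0 h2 fun _ => hm.abSyl h2.symm) D h.syl
    refine hm.np ?_
    by_cases e : 𝒩 (JJ p D) ≤ D
    · refine hy.2.mono (minNil_cent hm fun g _ => ?_)
      obtain ⟨x, hx, c, hc, n, hn, rfl⟩ := tf g
      rw [h0, mem_bot] at hx
      exact mul_mem (mul_mem (hx ▸ one_mem _) hc) (H8.le_centralizer_omega_Zc p D (e hn))
    · exact hy.1.mono (hm.eq_top (le_normalizer.trans (H9.normalizer_le_JJ p D)) e).ge)
    ⟨hS, H9.scl_self _ _, fun _ => rfl⟩ ⟨h3, h4⟩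

/-- quadratic elements of `T` act trivially on `U` -/
def QT (T U : Subgroup G) : Prop := ∀ y ∈ T, ⁅⁅U, zpowers y⁆, zpowers y⁆ = ⊥ → ⁅U, zpowers y⁆ = ⊥

omit hp in
theorem quad_of_le (hA : A ≤ 𝒩 V) (h : B ≤ 𝒞 V ⊔ A) (hq : ⁅⁅V, A⁆, A⁆ = ⊥) : ⁅⁅V, B⁆, B⁆ = ⊥ := by
  have h1 := H8.commutator_le_left_of_norm hA
  have h2 := H8.centralizer_anti h1
  have h3 : ⁅V, B⁆ ≤ ⁅V, A⁆ := (Subgroup.commutator_mono le_rfl h).trans (H1.commutator_sup_right_le
    ((le_cent_iff_comm.1 (le_cent_comm.1 le_rfl)).le.trans bot_le) le_rfl (h2.trans (cent_le_norm _))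
    (normalizer_commutator_ge_right _ _))
  exact le_cent_iff_comm.1 (h3.trans (le_cent_comm.1 (h.trans (sup_le h2 (le_cent_comm.1 (le_cent_iff_comm.2 hq))))))

theorem QT.ncl (h : QT T U) (hT : SylIn p T ⊤) (hs : IsPStableOn p (normalClosure (U : Set G))) :
    QT ⊤ (normalClosure (U : Set G)) := by
  intro a _ hq
  have h1 := mk_mem_pCore_iff.1 (hs a hq)
  have hU : U ≤ normalClosure (U : Set G) := le_normalClosure
  have key : normalClosure {a} ≤ 𝒞 U := (closure_le _).2 fun b hb => by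
    obtain ⟨_, rfl, hb'⟩ := Group.mem_conjugatesOfSet_iff.1 hb
    obtain ⟨g, rfl⟩ := isConj_iff.1 hb'
    obtain ⟨c, hc, y, hy, e⟩ := mem_sup_of_normal_left.1 (((hT.inf_normal' le_normalizer_of_normal le_top).resOf_sup.ge.trans
      (sup_le_sup h1 inf_le_left)) (conjugatesOfSet_subset_normalClosure hb))
    have h2 := congrArg (g ⋆ ·) hq
    simp only [cj_commutator, cj_zpowers, cj_bot, cj_eq_of_normal] at h2
    have h3 := quad_of_le (B := zpowers y) le_normalizer_of_normal (zpowers_le.2 (by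
      rw [eq_inv_mul_iff_mul_eq.2 e]
      exact mul_mem (mem_sup_left (inv_mem hc)) (mem_sup_right (mem_zpowers _)))) h2
    have h4 := h y hy (eq_bot_mono h3 (Subgroup.commutator_mono (Subgroup.commutator_mono hU le_rfl) le_rfl))
    rw [← e]
    exact mul_mem (H8.centralizer_anti hU hc) (le_cent_comm.1 (le_cent_iff_comm.2 h4) (mem_zpowers y))
  exact le_cent_iff_comm.1 ((normalClosure_le_normal (le_cent_comm.1 key)).trans (H8.centralizer_anti
    (zpowers_le.2 (subset_normalClosure rfl))))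

section W
omit [Finite G] hp
variable {H G' : Type u} [Group H] [Group G'] {τ : G →* H}

theorem oct_eq (p : ℕ) (G : Type u) [Group G] [Finite G] : omegaCenterThompson p G = II p ⊤ := by
  rw [H9.II_eq, H9.JJ_top]; rfl

theorem le_W : omegaOne p (center G) ≤ stableNormalClosure p G := le_sInf fun _ h => h.1

theorem W_le (h1 : omegaOne p (center G) ≤ U)
    (h2 : ∀ (H : Type u) [Group H] (τ : G →* H), IsStableEmbedding p τ → (U.map τ).Normal) :
    stableNormalClosure p G ≤ U := sInf_le ⟨h1, h2⟩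

variable [Finite G]

theorem II_normal (h : IsStableEmbedding p τ) : ((II p ⊤).map τ).Normal := by
  have := h.2.1
  have := h.2.2.2.2.1
  rw [H9.II_eq, map_omegaOne_inj _ h.1, map_Zc_inj _ h.1, H9.JJ_top]
  exact H8.normal_of_top_le (le_normalizer_of_normal.trans ((normalizer_le_Zc _).trans (normalizer_le_omegaOne p _)))

theorem W_le_II : stableNormalClosure p G ≤ II p ⊤ :=
  W_le (Zc_top (G := G) ▸ H9.omegaOne_Zc_le_II p ⊤) fun _ _ _ => II_normal

theorem W_normal (h : IsStableEmbedding p τ) : ((stableNormalClosure p G).map τ).Normal := by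
  refine ⟨?_⟩
  rintro _ ⟨x, hx, rfl⟩ g
  obtain ⟨y, -, e⟩ := (II_normal h).conj_mem _ (mem_map_of_mem τ (W_le_II hx)) g
  refine ⟨y, mem_sInf.2 fun U hU => ?_, e⟩
  obtain ⟨z, hz, e'⟩ := (hU.2 H τ h).conj_mem _ (mem_map_of_mem τ (mem_sInf.1 hx U hU)) g
  exact h.1 (e'.trans e.symm) ▸ hz

omit [Finite G] in
theorem W_map_le (η : G ≃* G') : (stableNormalClosure p G).map η.toMonoidHom ≤ stableNormalClosure p G' := by
  have c : ∀ {A B : Type u} [Group A] [Group B] (η : A ≃* B), (center A).map η.toMonoidHom = center B := fun η => by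
    rw [← Zc_top, map_Zc_inj _ η.injective, map_top_of_surjective _ η.surjective, Zc_top]
  have j : (thompsonSubgroup p G').map η.symm.toMonoidHom = thompsonSubgroup p G := by
    rw [← H9.JJ_top, H9.map_JJ_inj η.symm.injective, map_top_of_surjective _ η.symm.surjective, H9.JJ_top]
  refine le_sInf fun U hU => (map_mono (W_le (U := U.map η.symm.toMonoidHom) ?_ fun H _ τ h => ?_)).trans
    (map_symm_map η U).le
  · rw [← c η.symm, ← map_omegaOne_inj _ η.symm.injective]; exact map_mono hU.1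
  · obtain ⟨h1, h2, ⟨P, h3⟩, h4, h5, h6⟩ := h
    rw [map_map]
    refine hU.2 H _ ⟨h1.comp η.symm.injective, h2, ⟨P, by
      rw [h3, MonoidHom.range_comp, (MonoidHom.range_eq_top (f := η.symm.toMonoidHom)).2 η.symm.surjective, MonoidHom.range_eq_map]⟩, h4,
      by rwa [← map_map, j], fun V _ hV => h6 V ?_⟩
    rwa [← map_map, omegaCenterThompson, map_omegaOne_inj _ η.symm.injective, map_Zc_inj _ η.symm.injective, j] at hV

omit [Finite G] in
theorem W_map (η : G ≃* G') : (stableNormalClosure p G).map η.toMonoidHom = stableNormalClosure p G' :=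
  le_antisymm (W_map_le η) ((map_symm_map η _).ge.trans (map_mono (W_map_le η.symm)))

end W

theorem W_ne_bot (hG : IsPGroup p G) (h : Nontrivial G) : stableNormalClosure p G ≠ ⊥ := fun e =>
  H8.omega_Zc_ne_bot (hG.to_subgroup ⊤) top_ne_bot (eq_bot_iff.2 ((Zc_top (G := G) ▸ le_W).trans e.le))

theorem cpf : IsCharPFunctor p (stableNormalClosure.{u} p) :=
  ⟨fun _ _ _ => W_ne_bot, fun _ _ _ _ _ _ => W_map⟩

omit [Finite G] hp in
theorem QT.map {H : Type*} [Group H] {f : G →* H} (hf : Function.Injective f) : QT (T.map f) (U.map f) ↔ QT T U := by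
  have : ∀ y, (⁅⁅U.map f, zpowers (f y)⁆, zpowers (f y)⁆ = ⊥ → ⁅U.map f, zpowers (f y)⁆ = ⊥) ↔
      (⁅⁅U, zpowers y⁆, zpowers y⁆ = ⊥ → ⁅U, zpowers y⁆ = ⊥) := fun y => by
    rw [← MonoidHom.map_zpowers, ← map_commutator, ← map_commutator, map_eq_bot_iff_of_injective _ hf,
      map_eq_bot_iff_of_injective _ hf]
  exact ⟨fun h y hy => (this y).1 (h _ (mem_map_of_mem f hy)), by rintro h _ ⟨y, hy, rfl⟩; exact (this y).2 (h y hy)⟩

theorem qt_W : QT ⊤ (stableNormalClosure p G) := by
  obtain ⟨U, ⟨h1, h2, h3⟩, hm⟩ := exists_maximal_of_wellFoundedGT (fun U : Subgroup G =>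
    omegaOne p (center G) ≤ U ∧ U ≤ stableNormalClosure p G ∧ QT ⊤ U) ⟨_, le_rfl, le_W, fun y _ _ =>
      le_cent_iff_comm.1 ((omegaOne_le p _).trans (center_le_centralizer _))⟩
  refine le_antisymm h2 (W_le h1 fun H _ τ h => ?_) ▸ h3
  have := h.2.1
  have := W_normal h
  obtain ⟨P, hP⟩ := h.2.2.1
  have v1 : normalClosure (U.map τ : Set H) ≤ (stableNormalClosure p G).map τ := normalClosure_le_normal (map_mono h2)
  have v2 := map_comap_eq_self (v1.trans (map_le_range τ _))
  have q := ((QT.map h.1).2 h3).ncl (by rw [← MonoidHom.range_eq_map, ← hP]; exact sylIn_top P)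
    (h.2.2.2.2.2 _ (v1.trans (map_mono (oct_eq p G ▸ W_le_II))))
  have u : U ≤ (normalClosure (U.map τ : Set H)).comap τ := map_le_iff_le_comap.1 le_normalClosure
  have := hm ⟨h1.trans u, (comap_mono v1).trans (comap_map_eq_self_of_injective h.1 _).le,
    (QT.map h.1).1 fun y _ => by rw [v2]; exact q y trivial⟩ u
  rw [le_antisymm u this, v2]; infer_instance

theorem mem_pCore (hst : IsActionPStable p G) (hc : CharP' p G) (h : ⁅⁅pCore p G, zpowers a⁆, zpowers a⁆ = ⊥) :
    a ∈ pCore p G := by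
  have hQ := L.pCore_isPGroup p G
  obtain ⟨D, hD, -, ⟨k, hk⟩, ha⟩ := hst.2.1 a (h.le.trans bot_le)
  have : (sectionKernel (pCore p G) ((frattini (pCore p G)).map (pCore p G).subtype)).Normal := by
    have := Normal.map (inferInstance : (pCore p G).Normal) _
      (QuotientGroup.mk'_surjective ((frattini (pCore p G)).map (pCore p G).subtype))
    unfold sectionKernel; infer_instance
  refine H1.le_pCore hD (H8.isPGroup_of_resOf_le (resOf_le_iff.2 fun g hg h1 => hc (zpowers_le.1
    (H1.le_centralizer_of_commutator_le_frattini le_normalizer_of_normal ?_ ?_))) hQ) ha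
  · obtain ⟨j, hj⟩ := (hQ.to_subgroup (frattini _)).exists_card_eq
    rw [Nat.card_zpowers, hj]; exact h1.pow_right j
  · have h2 := resOf_le_of_relIndex le_normalizer_of_normal hk (mem_resOf hg h1)
    rw [← QuotientGroup.ker_mk' (Subgroup.map _ _), ← Subgroup.map_eq_bot_iff, map_commutator, ← le_cent_iff_comm,
      le_cent_comm, MonoidHom.map_zpowers, zpowers_le]
    exact h2

theorem norm_JJ_le (hst : IsActionPStable p G) (hc : CharP' p G) (hS : SylIn p S ⊤) :
    𝒩 (JJ p S) ≤ 𝒩 (inducedFunctor (stableNormalClosure p) S) := by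
  have h1 := le_normalizer.trans (H9.normalizer_le_JJ p S)
  rw [H9.JJ_eq] at *
  have e : ∀ U : Subgroup S, (U.map (inclusion h1)).map (Subgroup.subtype _) = U.map S.subtype := fun U => map_map _ _ _
  have := W_normal (p := p) (τ := inclusion h1) ⟨inclusion_injective _, inferInstance, by
    rw [inclusion_range]; exact sylIn_top_iff.1 (hS.mono h1 le_top).subgroupOf_top, (H8.char_iff_Fs _).2 (H8.Fs_eq_Op_of_Op_le
      (H8.char_top_iff_Fs.1 hc) ((H8.SylIn_Op_le hS).trans h1) le_top),
    (H8.normal_iff_le_normalizer_map _).2 (by rw [e]; rfl), fun V _ hV => by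
      obtain ⟨S, rfl⟩ := sylIn_top_iff.1 hS
      exact hst.2.2 S V (e _ ▸ map_mono hV)⟩
  rwa [H8.normal_iff_le_normalizer_map, e] at this

theorem W_normal_of (hst : IsActionPStable p G) (hc : CharP' p G) (hS : SylIn p S ⊤) :
    (inducedFunctor (stableNormalClosure p) S).Normal := by
  have h1 := norm_JJ_le hst hc hS
  have h2 : QT S (inducedFunctor (stableNormalClosure p) S) := by
    have := (QT.map S.subtype_injective).2 (qt_W (p := p))
    rwa [H8.map_subtype_top] at this
  have h3 : AE p (inducedFunctor (stableNormalClosure p) S) :=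
    ((H9.II_ae p ⊤).of_le W_le_II).map _
  generalize inducedFunctor (stableNormalClosure p) S = W at *
  have hQ := hS.pCore_le
  have h4 := hQ.trans ((le_normalizer.trans (H9.normalizer_le_JJ p S)).trans h1)
  have h5 : W ≤ pCore p G := fun a ha => mem_pCore hst hc (le_cent_iff_comm.1 ((((Subgroup.commutator_mono le_rfl
    (zpowers_le.2 ha)).trans (H8.commutator_le_right_of_norm h4)).trans h3.le_centralizer).trans
      (H8.centralizer_anti (zpowers_le.2 ha))))
  have hW : W ≤ normalClosure (W : Set G) := le_normalClosure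
  have h6 : normalClosure (W : Set G) ≤ 𝒞 W := (closure_le _).2 fun b hb => by
    obtain ⟨x, hx, hb'⟩ := Group.mem_conjugatesOfSet_iff.1 hb
    obtain ⟨g, rfl⟩ := isConj_iff.1 hb'
    have b1 := zpowers_le.2 (conj_mem_cj g hx)
    have b2 : pCore p G ≤ 𝒩 (g ⋆ W) := by
      rw [← cj_normalizer, ← cj_eq_of_normal g (pCore p G)]; exact cj_mono g h4
    exact le_cent_comm.1 (le_cent_iff_comm.2 (h2 _ (hQ (Normal.conj_mem inferInstance x (h5 hx) g))
      (le_cent_iff_comm.1 ((((Subgroup.commutator_mono h5 b1).trans (H8.commutator_le_right_of_norm b2)).trans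
        (H9.AE.le_centralizer (elem_cj h3 g))).trans (H8.centralizer_anti b1))))) (mem_zpowers _)
  have h7 : normalClosure (W : Set G) ≤ pCore p G := normalClosure_le_normal h5
  have h8 : IsMulCommutative (normalClosure (W : Set G)) :=
    le_centralizer_iff_isMulCommutative.1 (normalClosure_le_normal (le_cent_comm.1 h6))
  have h9 : AE p (normalClosure (W : Set G)) := ⟨h8, fun a ha => pow_eq_one_of_mem_omegaOne_comm h8 (by
    have := H8.normal_of_top_le (le_normalizer_of_normal.trans (normalizer_le_omegaOne p (normalClosure (W : Set G))))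
    exact normalClosure_le_normal (le_omegaOne hW h3.2) ha)⟩
  have q := h2.ncl hS (hst.1 _ h9)
  have h10 : JJ p S ≤ 𝒞 (normalClosure (W : Set G)) := H9.JJ_le_iff.2 fun A hA => by
    by_contra hne
    refine hA.repl_ne hS.pgrp h9 (h7.trans hQ) le_normalizer_of_normal (mt (le_cent_iff_comm.2 · |> le_cent_comm.1) hne)
      (le_cent_iff_comm.1 (le_cent_comm.1 fun x hx => le_cent_comm.1 (le_cent_iff_comm.2 (q x trivial ?_))
        (mem_zpowers x)))
    exact eq_bot_mono (H9.repl_quad h8 le_normalizer_of_normal) (Subgroup.commutator_mono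
      (Subgroup.commutator_mono le_rfl (zpowers_le.2 hx)) (zpowers_le.2 hx))
  refine H8.normal_of_top_le fun g hg => ?_
  obtain ⟨c, c1, n, n1, rfl⟩ := H9.frattini_JJ hS le_top le_normalizer_of_normal h10 hg
  exact mul_mem (cent_le_norm W (H8.centralizer_anti hW c1)) (h1 n1.2)

theorem opp_sup (h5 : 5 ≤ p) (hs : IsPSolvable p G) (hS : SylIn p S ⊤) :
    pPrimeCore p G ⊔ 𝒩 (inducedFunctor (stableNormalClosure p) S) = ⊤ := by
  have hN := L.pPrimeCore_coprime p (G := G)
  have h := H9.pSolv_sec (Sec.quot (pPrimeCore p G)) hs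
  exact H9.sup_normalizer_eq_top hN (hS.pgrp.to_le (induced_le _ S)) ((H9.pf_induced cpf).normal_of_quot hS.pgrp hN
    (W_normal_of (H9.actionPStable_of fun X _ hX => haveI := hX.finite; H9.pSt_of_pSolv h5 (H9.pSolv_sec hX h))
      (FM.Fs_of_psolv h (L.pPrimeCore_quotient_eq_bot p G)) (hS.map_surj _ (QuotientGroup.mk'_surjective _))))

theorem pNil_of_W (h2 : p ≠ 2) (hS : SylIn p S ⊤) (h : PNil p (𝒩 (inducedFunctor (stableNormalClosure p) S))) :
    PNil p (⊤ : Subgroup G) :=
  ((H9.pf_induced cpf).goodHyp True).pNil (fun X _ _ _ S D h hy hm => by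
    obtain rfl := h.eq trivial
    have := W_normal_of (H9.actionPStable_of (hm.pSt_sec h2)) hm.char h.syl
    exact hm.not_pNil hy) ⟨hS, H9.scl_self _ _, fun _ => rfl⟩ h

end Cfsg.Agent.H2.WS
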