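import Cfsg.Agent.H2.BG3a
import Cfsg.Agent.BG.Basic

/-! The numerical consequences of a fixed point free action of a group of prime order on a module for a class two group. -/

namespace Cfsg.Agent.H2

open Subgroup H8 Module Cfsg.Agent.BG
open scoped commutatorElement

universe u
variable {F Γ W : Type*} [Field F] [Group Γ] [AddCommGroup W] [Module F W]

def Num34 (K R : Subgroup Γ) : Prop := ∃ d, d ≠ 1 ∧ d + 1 = ♯R ∧ d ^ 2 * ♯↥⁅K, K⁆ ∣ ♯K ∧ ⁅K, K⁆ ≠ ⊥ ∧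
  ((♯↥⁅K, K⁆).Prime → ♯K ≤ d ^ 2 * ♯↥(K ⊓ 𝒞 K))

theorem Num34.of_subgroupOf {K R X : Subgroup Γ} (hK : K ≤ X) (hR : R ≤ X)
    (h : Num34 (K.subgroupOf X) (R.subgroupOf X)) : Num34 K R := by
  obtain ⟨d, h1, h2, h3, h4, h5⟩ := h
  have hN := (comm_self_le K).trans hK
  rw [← subgroupOf_commutator hK hK] at h3 h4 h5
  rw [H1.card_subgroupOf hN, H1.card_subgroupOf hK] at h3 h5
  rw [centralizer_subgroupOf hK, show K.subgroupOf X ⊓ (𝒞 K).subgroupOf X = (K ⊓ 𝒞 K).subgroupOf X from rfl,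
    H1.card_subgroupOf (inf_le_left.trans hK)] at h5
  exact ⟨d, h1, h2.trans (H1.card_subgroupOf hR), h3, fun e => h4 (by rw [e, bot_subgroupOf]), h5⟩

theorem comm_mul_left' {K : Subgroup Γ} (hZ : ⁅K, K⁆ ≤ 𝒞 K) {a b k : Γ} (ha : a ∈ K) (hb : b ∈ K) (hk : k ∈ K) :
    ⁅a * b, k⁆ = ⁅a, k⁆ * ⁅b, k⁆ := by
  have h1 := mem_centralizer_iff.1 (hZ (commutator_mem_commutator hb hk)) a ha
  have h2 := mem_centralizer_iff.1 (hZ (commutator_mem_commutator hb hk)) _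
    (comm_self_le K (commutator_mem_commutator ha hk))
  rw [h2, show ⁅a * b, k⁆ = a * ⁅b, k⁆ * a⁻¹ * ⁅a, k⁆ by simp only [commutatorElement_def]; group, h1]
  group

theorem comm_mul_right' {K : Subgroup Γ} (hZ : ⁅K, K⁆ ≤ 𝒞 K) {a b k : Γ} (ha : a ∈ K) (hb : b ∈ K) (hk : k ∈ K) :
    ⁅k, a * b⁆ = ⁅k, a⁆ * ⁅k, b⁆ := by
  have h1 := mem_centralizer_iff.1 (hZ (commutator_mem_commutator hk hb)) a ha
  rw [show ⁅k, a * b⁆ = ⁅k, a⁆ * (a * ⁅k, b⁆) * a⁻¹ by simp only [commutatorElement_def]; group, h1]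
  group

/-- the commutator pairing composed with a character of the derived group -/
def commChar {K : Subgroup Γ} (hZ : ⁅K, K⁆ ≤ 𝒞 K) (μ : ↥⁅K, K⁆ →* Fˣ) : K →* (K →* Fˣ) :=
  MonoidHom.mk' (fun k => MonoidHom.mk' (fun a => μ ⟨⁅(a : Γ), (k : Γ)⁆, commutator_mem_commutator a.2 k.2⟩)
    fun a b => by rw [← map_mul]; exact congrArg μ (Subtype.ext (comm_mul_left' hZ a.2 b.2 k.2)))
    fun a b => MonoidHom.ext fun k => by
      rw [MonoidHom.mul_apply, MonoidHom.mk'_apply, MonoidHom.mk'_apply, MonoidHom.mk'_apply, ← map_mul]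
      exact congrArg μ (Subtype.ext (comm_mul_right' hZ a.2 b.2 k.2))

theorem commChar_apply {K : Subgroup Γ} (hZ : ⁅K, K⁆ ≤ 𝒞 K) (μ : ↥⁅K, K⁆ →* Fˣ) (k a : K) :
    commChar hZ μ k a = μ ⟨⁅(a : Γ), (k : Γ)⁆, commutator_mem_commutator a.2 k.2⟩ := rfl

variable [Finite Γ] [FiniteDimensional F W] [IsAlgClosed F]

omit [FiniteDimensional F W] [IsAlgClosed F] in
theorem card_le_projW {ρ : Representation F Γ W} {K : Subgroup Γ} (hZ : ⁅K, K⁆ ≤ 𝒞 K) {μ : ↥⁅K, K⁆ →* Fˣ}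
    (hμ : μ ≠ 1) (hw : ∀ w, w ∈ wt ρ _ μ) (hp : (♯↥⁅K, K⁆).Prime) : ♯K ≤ ♯(projW ρ K) * ♯↥(K ⊓ 𝒞 K) := by
  have := Fact.mk hp
  have h1 : μ.ker = ⊥ := (eq_bot_or_eq_top_of_prime_card μ.ker).resolve_right fun e => hμ (MonoidHom.ext fun a => by
    have : a ∈ μ.ker := e ▸ mem_top a
    exact this)
  rw [← (commChar hZ μ).ker.index_mul_card, index_ker, inf_comm, ← H1.card_subgroupOf']
  refine Nat.mul_le_mul (card_le_of_le ?_) (card_le_of_le fun k hk => mem_subgroupOf.2 (mem_centralizer_iff.2 fun a ha => ?_))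
  · rintro _ ⟨k, rfl⟩
    refine ⟨ρ.asGroupHom k, mem_wt_linHom.2 fun a w => ?_⟩
    have e : ∀ v, (ρ.asGroupHom k : Module.End F W) v = ρ k v := fun v => by rw [Representation.asGroupHom_apply]
    rw [e, e, commChar_apply, ← mem_wt.1 (hw _), ← rep_mul_apply, ← rep_mul_apply, ← rep_mul_apply]
    congr 2
    simp only [commutatorElement_def]; group
  · have h2 : _ ∈ μ.ker := DFunLike.congr_fun (MonoidHom.mem_ker.1 hk) ⟨a, ha⟩
    rw [h1, mem_bot] at h2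
    exact commutatorElement_eq_one_iff_mul_comm.1 (congrArg Subtype.val h2)

theorem num34_irr [Nontrivial W] {ρ : Representation F Γ W} {K R : Subgroup Γ} (hirr : IrrOn ρ (K ⊔ R))
    (hn : R ≤ 𝒩 K) (hR : (♯R).Prime) (hKR : ⁅K, R⁆ = K) (hZ : ⁅K, K⁆ ≤ 𝒞 (K ⊔ R)) (hK0 : (♯K : F) ≠ 0)
    (hR0 : (♯R : F) ≠ 0) (hfix : fixS ρ R = ⊥) {μ : ↥⁅K, K⁆ →* Fˣ} (hμ : μ ≠ 1) (hw : ∀ w, w ∈ wt ρ _ μ) :
    Num34 K R := by
  obtain ⟨h3, h4⟩ := core34 hirr hn hR hKR hZ hK0 hR0 hfix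
  have h1 : finrank F W ≠ 1 := fun h6 => by
    obtain ⟨u, hu0⟩ := exists_ne (0 : W)
    have h7 := mem_fixS_iff_le.2 (der_le_stabV (ρ := ρ) (Y := K) (w := u) fun k hk =>
      exists_smul_of_finrank_le_one (U := ⊤) (by rw [finrank_top, h6]) trivial trivial hu0)
    rw [← wt_one] at h7
    exact hμ (eq_of_mem_wt hu0 (hw u) h7)
  refine ⟨_, h1, h3.resolve_left h1, ?_, fun e => hμ (MonoidHom.ext fun a => ?_), fun hp => ?_⟩
  · rw [h4, ← card_char hK0]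
    exact Nat.mul_dvd_mul_right (card_subgroup_dvd_card _) _
  · rw [show a = 1 from Subtype.ext (mem_bot.1 (e.le a.2)), map_one, map_one]
  · rw [h4]
    exact card_le_projW (hZ.trans (centralizer_le (SetLike.coe_subset_coe.2 le_sup_left))) hμ hw hp

theorem num34_rep (ρ : Representation F Γ W) {K R : Subgroup Γ} (hn : R ≤ 𝒩 K) (hR : (♯R).Prime) (hKR : ⁅K, R⁆ = K)
    (hZ : ⁅K, K⁆ ≤ 𝒞 (K ⊔ R)) (hK0 : (♯K : F) ≠ 0) (hR0 : (♯R : F) ≠ 0) (hfix : fixS ρ R = ⊥)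
    (hne : ¬ K ≤ MonoidHom.ker ρ) : Num34 K R := by
  have h1 := wielandt_step ρ hn hK0 fun x hx hx1 => by
    rw [H1.eq_of_le_of_card_prime hR (zpowers_le.2 hx) (by simpa using hx1), hKR]
  rw [fixS_sup, fixS_sup, hfix, inf_bot_eq, inf_bot_eq, add_left_inj] at h1
  have h2 := Submodule.eq_of_le_of_finrank_eq (fixS_anti ρ (comm_self_le K)) h1.symm
  rw [← fixS_eq_top_iff, h2, eq_top_iff] at hne
  have hNK := comm_self_le K
  have hNN : ⁅⁅K, K⁆, ⁅K, K⁆⁆ = ⊥ := commutator_eq_bot_iff_le_centralizer.2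
    (hZ.trans (centralizer_le (SetLike.coe_subset_coe.2 (hNK.trans le_sup_left))))
  obtain ⟨μ, hμ, w, hw, hw0⟩ := exists_wt_ne_bot (ρ := ρ)
    (natCast_ne_zero_of_dvd (card_dvd_of_le hNK) hK0) (by rwa [hNN, fixS_bot])
  have hc : K ⊔ R ≤ 𝒞 ⁅K, K⁆ := le_centralizer_iff.1 hZ
  obtain ⟨U, hU1, hU2, hU3, hU4⟩ := exists_min_inv ρ (K ⊔ R) (U := wt ρ _ μ)
    ((Submodule.ne_bot_iff _).2 ⟨w, hw, hw0⟩) fun g hg v hv => by
      have := rep_mem_wt ⟨g, BG.cent_le_norm _ (hc hg)⟩ hv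
      rwa [cjw_eq_of_cent _ (hc hg)] at this
  haveI : Nontrivial U := Submodule.nontrivial_iff_ne_bot.2 hU2
  have e1 : K.subgroupOf (K ⊔ R) ⊔ R.subgroupOf (K ⊔ R) = ⊤ := by
    rw [← subgroupOf_sup le_sup_left le_sup_right, subgroupOf_self]
  have e2 := H1.card_subgroupOf (le_sup_left : K ≤ K ⊔ R)
  have e3 := H1.card_subgroupOf (le_sup_right : R ≤ K ⊔ R)
  have e4 := subgroupOf_commutator (le_sup_left : K ≤ K ⊔ R) (le_sup_left : K ≤ K ⊔ R)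
  let f : ↥⁅K.subgroupOf (K ⊔ R), K.subgroupOf (K ⊔ R)⁆ →* ↥⁅K, K⁆ :=
    ((K ⊔ R).subtype.comp (Subgroup.subtype _)).codRestrict _ fun x => e4.ge x.2
  refine .of_subgroupOf le_sup_left le_sup_right (num34_irr (ρ := subRep ρ _ U hU3)
    (e1 ▸ irrOn_subRep hU3 hU4) (subgroupOf_le_normalizer hn) (e3 ▸ hR)
    (by rw [← subgroupOf_commutator le_sup_left le_sup_right, hKR])
    (by
      rw [← e4, e1]
      intro z hz
      exact mem_centralizer_iff.2 fun g _ => Subtype.ext (mem_centralizer_iff.1 (hZ hz) g g.2))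
    (by rwa [e2]) (by rwa [e3])
    (eq_bot_iff.2 fun u hu => by
      have := (mem_fixS_subRep le_sup_right hU3).1 hu
      rw [hfix, Submodule.mem_bot] at this
      exact Subtype.ext this) (μ := μ.comp f) (fun e => hμ (MonoidHom.ext fun a => ?_))
    fun u a => Subtype.ext (hU1 u.2 (f a)))
  exact DFunLike.congr_fun e ⟨⟨a, mem_sup_left (hNK a.2)⟩, e4.le a.2⟩

theorem num34 {G : Type u} [Group G] [Finite G] {K R V : Subgroup G} (hn : R ≤ 𝒩 K) (hR : (♯R).Prime)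
    (hKR : ⁅K, R⁆ = K) (hZ : ⁅K, K⁆ ≤ 𝒞 (K ⊔ R)) (hV : Group.IsSolvable V) (hKV : K ≤ 𝒩 V) (hRV : R ≤ 𝒩 V)
    (hcV : (♯↥(K ⊔ R)).Coprime ♯V) (h1 : V ⊓ 𝒞 R = ⊥) (hne : ¬ K ≤ 𝒞 V) : Num34 K R := by
  by_contra h
  refine hne (cent_of_forall_rep (X := K ⊔ R) le_sup_left (sup_le hKV hRV) hV hcV fun F _ _ W _ _ _ ρ h0 h2 _ => ?_)
  by_contra h3
  refine h (.of_subgroupOf le_sup_left le_sup_right (num34_rep ρ (subgroupOf_le_normalizer hn)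
    (by rwa [H1.card_subgroupOf le_sup_right]) (by rw [← subgroupOf_commutator le_sup_left le_sup_right, hKR]) ?_
    (natCast_ne_zero_of_dvd (card_subgroup_dvd_card _) h0) (natCast_ne_zero_of_dvd (card_subgroup_dvd_card _) h0)
    (h2 R le_sup_right h1) h3))
  rw [← subgroupOf_commutator le_sup_left le_sup_left]
  intro z hz
  exact mem_centralizer_iff.2 fun g _ => Subtype.ext (mem_centralizer_iff.1 (hZ hz) g g.2)

theorem Num34.two {K R : Subgroup Γ} {q : ℕ} [hq : Fact q.Prime] (h : Num34 K R) (hK : IsPGroup q K) (hR : (♯R).Prime) :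
    q = 2 ∧ ∃ n, ♯R = 2 ^ n + 1 ∧ 2 ^ (2 * n) * ♯↥⁅K, K⁆ ∣ ♯K ∧ ⁅K, K⁆ ≠ ⊥ ∧
      ((♯↥⁅K, K⁆).Prime → ♯K ≤ 2 ^ (2 * n) * ♯↥(K ⊓ 𝒞 K)) := by
  obtain ⟨d, h1, h2, h3, h4, h5⟩ := h
  obtain ⟨m, hm⟩ := hK.exists_card_eq
  obtain ⟨n, -, rfl⟩ := (Nat.dvd_prime_pow hq.out).1
    (((dvd_pow_self d two_ne_zero).trans ((Dvd.intro _ rfl).trans h3)).trans hm.dvd)
  have hn : n ≠ 0 := fun e => h1 (by rw [e, pow_zero])
  obtain rfl : q = 2 := by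
    by_contra e
    have h6 : Even ♯R := h2 ▸ (hq.out.odd_of_ne_two e).pow.add_one
    rw [hR.even_iff.1 h6] at h2
    exact h1 (by omega)
  rw [← pow_mul, mul_comm n] at h3 h5
  exact ⟨rfl, n, h2.symm, h3, h4, h5⟩

end Cfsg.Agent.H2
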